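import Cfsg.Agent.ChamberSt.Unip

/-!
# The functions with all panel sums zero

They are determined by their values on the flags opposite to a given one, which are arbitrary.
-/

set_option autoImplicit false
set_option linter.unusedSectionVars false

namespace CfsgLib.ChamberSt.Geo

open Module CfsgLib.ChamberSt.Geo.Flag
open scoped Classical

variable {F V : Type*} [Field F] [AddCommGroup V] [Module F V] (Γ : Geo F V) [FiniteDimensional F V]
variable [Fintype Γ.Flag]

open Classical in
/-- The flags of a panel. -/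
noncomputable def panel (D : Γ.Flag) (k : ℕ) : Finset Γ.Flag := Finset.univ.filter fun E => Adj E D k

theorem mem_panel {D E : Γ.Flag} {k : ℕ} : E ∈ Γ.panel D k ↔ Adj E D k := by simp [panel]

/-- The functions with all panel sums zero. -/
noncomputable def cusp : Submodule ℂ (Γ.Flag → ℂ) where
  carrier := {f | ∀ D, ∀ k < Γ.m, ∑ E ∈ Γ.panel D k, f E = 0}
  add_mem' hf hg D k hk := by
    simp only [Pi.add_apply, Finset.sum_add_distrib, hf D k hk, hg D k hk, add_zero]
  zero_mem' D k _ := by simp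
  smul_mem' c f hf D k hk := by
    simp only [Pi.smul_apply, ← Finset.smul_sum, hf D k hk, smul_zero]

theorem mem_cusp {f : Γ.Flag → ℂ} :
    f ∈ Γ.cusp ↔ ∀ D, ∀ k < Γ.m, ∑ E ∈ Γ.panel D k, f E = 0 := Iff.rfl

namespace Frame

variable {Γ} (φ : Γ.Frame)

open Classical in
/-- The alternating sum of the apartment. -/
noncomputable def alt : Γ.Flag → ℂ := fun D => ∑ w, if φ.flag w = D then sgn w else 0

theorem alt_mem : φ.alt ∈ Γ.cusp := by
  classical
  intro D k hk
  simp only [alt]
  rw [Finset.sum_comm]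
  have h1 : ∀ w : Γ.SPerm, (∑ E ∈ Γ.panel D k, if φ.flag w = E then sgn w else (0 : ℂ)) =
      if Adj (φ.flag w) D k then sgn w else 0 := fun w => by
    rw [Finset.sum_ite_eq]
    simp only [mem_panel]
  simp only [h1]
  rw [← Finset.sum_filter]
  refine Finset.sum_involution (fun w _ => step k hk w)
    (fun w _ => by rw [sgn_step, add_neg_cancel])
    (fun w _ hw he => by
      have := sgn_step k hk w
      rw [he] at this
      exact hw (by linear_combination this / 2))
    (fun w hw => ?_) (fun w _ => step_step k hk w)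
  simp only [Finset.mem_filter, Finset.mem_univ, true_and] at hw ⊢
  exact (φ.adj_step k hk w).trans hw

theorem alt_opp {D : Γ.Flag} (h : Opp φ.base D) :
    φ.alt D = if φ.anti = D then sgn (diag fun _ : Fin Γ.m => true) else 0 := by
  classical
  rw [alt, Finset.sum_eq_single (diag fun _ => true)]
  · rfl
  · intro w _ hw
    refine if_neg fun e => hw (φ.eq_diag_of_opp ?_)
    rw [e]; exact h
  · simp

theorem exists_flag_eq {D : Γ.Flag} (h : φ.alt D ≠ 0) : ∃ w, φ.flag w = D := by
  by_contra hc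
  exact h (Finset.sum_eq_zero fun w _ => if_neg fun e => hc ⟨w, e⟩)

end Frame

variable {Γ}

theorem eq_zero_of_opp (C : Γ.Flag) {f : Γ.Flag → ℂ} (hf : f ∈ Γ.cusp)
    (h : ∀ E, Opp C E → f E = 0) : f = 0 := by
  classical
  have key : ∀ n, ∀ D, Flag.μ C D = n → f D = 0 := by
    intro n
    induction n using Nat.strong_induction_on with
    | _ n ih =>
      intro D hn
      by_cases ho : Opp C D
      · exact h D ho
      · obtain ⟨k, hk, hs⟩ := exists_star C D ho
        have h0 := hf D k hk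
        rw [Finset.sum_eq_single_of_mem D ((Γ.mem_panel).2 (Adj.refl D k)) fun E hE hne =>
          ih _ (hn ▸ μ_lt C D hk hs ((Γ.mem_panel).1 hE) hne) E rfl] at h0
        exact h0
  exact funext fun D => key _ D rfl

theorem exists_cusp (C : Γ.Flag) (v : {E // Opp C E} → ℂ) :
    ∃ f ∈ Γ.cusp, ∀ E : {E // Opp C E}, f E = v E := by
  classical
  have hfr : ∀ E : {E // Opp C E}, ∃ φ : Γ.Frame, φ.base = C ∧ φ.anti = E := fun E =>
    Frame.exists_frame E.2
  choose φ hφC hφE using hfr
  let s : ℂ := Frame.sgn (Frame.diag (Γ := Γ) fun _ => true)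
  refine ⟨∑ E, (v E * s⁻¹) • (φ E).alt, sum_mem fun E _ => Γ.cusp.smul_mem _ (φ E).alt_mem, fun E => ?_⟩
  rw [Finset.sum_apply, Finset.sum_eq_single E]
  · rw [Pi.smul_apply, smul_eq_mul, (φ E).alt_opp (by rw [hφC]; exact E.2), if_pos (hφE E), mul_assoc,
      inv_mul_cancel₀ (Frame.sgn_ne_zero _), mul_one]
  · intro E' _ hne
    rw [Pi.smul_apply, (φ E').alt_opp (by rw [hφC]; exact E.2), if_neg, smul_zero]
    intro e
    exact hne (Subtype.ext ((hφE E').symm.trans e))
  · simp

/-- Restriction to the opposite flags. -/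
noncomputable def cuspRes (C : Γ.Flag) : Γ.cusp →ₗ[ℂ] ({E // Opp C E} → ℂ) where
  toFun f E := (f : Γ.Flag → ℂ) E.1
  map_add' _ _ := rfl
  map_smul' _ _ := rfl

theorem cuspRes_bijective (C : Γ.Flag) : Function.Bijective (cuspRes C) :=
  ⟨fun f g h => Subtype.ext <| sub_eq_zero.1 <| eq_zero_of_opp C (Γ.cusp.sub_mem f.2 g.2) fun E hE =>
      sub_eq_zero.2 (congrFun h ⟨E, hE⟩),
    fun v => by
      obtain ⟨f, hf, h⟩ := exists_cusp C v
      exact ⟨⟨f, hf⟩, funext h⟩⟩

/-- Restriction to the opposite flags is bijective. -/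
noncomputable def cuspEquiv (C : Γ.Flag) : Γ.cusp ≃ₗ[ℂ] ({E // Opp C E} → ℂ) :=
  LinearEquiv.ofBijective (cuspRes C) (cuspRes_bijective C)

theorem cuspEquiv_apply (C : Γ.Flag) (f : Γ.cusp) (E : {E // Opp C E}) :
    cuspEquiv C f E = (f : Γ.Flag → ℂ) E := rfl

theorem finrank_cusp (C : Γ.Flag) [Fintype {E // Opp C E}] :
    finrank ℂ Γ.cusp = Fintype.card {E // Opp C E} := by
  rw [(cuspEquiv C).finrank_eq, Module.finrank_fintype_fun_eq_card]

theorem card_unip [Finite V] (C : Γ.Flag) : Nat.card C.unip = Nat.card {E // Opp C E} := by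
  obtain ⟨E₀, hE₀⟩ := C.exists_opp
  refine Nat.card_congr (Equiv.ofBijective (fun g => ⟨(g : Γ.isom) • E₀, ?_⟩) ⟨?_, ?_⟩)
  · have := Opp.smul (g : Γ.isom) hE₀
    rwa [C.unip_smul g.2] at this
  · intro g h e
    have e' : ((h : Γ.isom)⁻¹ * g) • E₀ = E₀ := by
      rw [mul_smul, show (g : Γ.isom) • E₀ = (h : Γ.isom) • E₀ from congrArg Subtype.val e,
        inv_smul_smul]
    exact Subtype.ext (inv_mul_eq_one.1
      (Frame.eq_one_of_smul_eq hE₀ (mul_mem (inv_mem h.2) g.2) e')).symm
  · rintro ⟨E, hE⟩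
    obtain ⟨g, hg, rfl⟩ := Frame.exists_unip hE₀ hE
    exact ⟨⟨g, hg⟩, rfl⟩

end CfsgLib.ChamberSt.Geo
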