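import Cfsg.Agent.ChamberSt.Fixed
import Cfsg.Agent.Characters.DefectZero
import Cfsg.Agent.Characters.Linear

/-!
# The Steinberg character of a group of isometries modulo its centre
-/

set_option autoImplicit false
set_option linter.unusedSectionVars false
set_option linter.style.haveILetI false

namespace CfsgLib.ChamberSt

open Module

variable {F V : Type*} [Field F] [AddCommGroup V] [Module F V] [FiniteDimensional F V]

/-- An element of `p`-power order is unipotent on a quotient of dimension at most one. -/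
theorem sub_mem_of_pow (p : ℕ) [Fact p.Prime] [CharP F p] {X Y : Submodule F V} (hXY : X ≤ Y)
    (hd : finrank F Y ≤ finrank F X + 1) (g : V ≃ₗ[F] V) (hX : ∀ v ∈ X, g v ∈ X)
    (hY : ∀ v ∈ Y, g v ∈ Y) {k : ℕ} (hk : g ^ p ^ k = 1) {v : V} (hv : v ∈ Y) : g v - v ∈ X := by
  by_cases hle : Y ≤ X
  · exact hle (sub_mem (hY v hv) hv)
  obtain ⟨y, hy, hyX⟩ := SetLike.not_le_iff_exists.1 hle
  have hs : X ⊔ Submodule.span F {y} = Y := Geo.Flag.sup_eq_of_not_le hXY hd
    ((Submodule.span_singleton_le_iff_mem _ _).2 hy)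
    fun h => hyX ((Submodule.span_singleton_le_iff_mem _ _).1 h)
  have hgy := hY y hy
  rw [← hs] at hgy hv
  obtain ⟨z, hz, w, hw, he⟩ := Submodule.mem_sup.1 hgy
  obtain ⟨c, rfl⟩ := Submodule.mem_span_singleton.1 hw
  have hn : ∀ n, (g ^ n) y - c ^ n • y ∈ X := by
    intro n
    induction n with
    | zero => simp
    | succ n ih =>
      have h1 := hX _ ih
      rw [map_sub, map_smul, ← he, smul_add, smul_smul] at h1
      rw [pow_succ' g, LinearEquiv.mul_apply, pow_succ]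
      have h2 := add_mem h1 (X.smul_mem (c ^ n) hz)
      convert h2 using 1
      abel
  have hc : c = 1 := by
    have h1 := hn (p ^ k)
    rw [hk, LinearEquiv.coe_one, id] at h1
    by_contra hc
    have hc' : (1 : F) - c ^ p ^ k ≠ 0 := by
      rw [sub_ne_zero]
      intro h
      refine hc ?_
      have : (c - 1) ^ p ^ k = 0 := by rw [sub_pow_char_pow, one_pow, ← h, sub_self]
      exact sub_eq_zero.1 (eq_zero_of_pow_eq_zero this)
    refine hyX ?_
    have h2 : ((1 : F) - c ^ p ^ k) • y ∈ X := by rwa [sub_smul, one_smul]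
    simpa [smul_smul, inv_mul_cancel₀ hc'] using X.smul_mem ((1 : F) - c ^ p ^ k)⁻¹ h2
  subst hc
  obtain ⟨a, ha, b, hb, rfl⟩ := Submodule.mem_sup.1 hv
  obtain ⟨d, rfl⟩ := Submodule.mem_span_singleton.1 hb
  rw [map_add, map_smul, ← he, add_sub_add_comm, smul_add, one_smul, add_sub_cancel_right]
  exact add_mem (sub_mem (hX a ha) ha) (X.smul_mem d hz)

namespace Geo

open CfsgLib.ChamberSt.Geo.Flag
open scoped Classical

variable {Γ : Geo F V} [Finite V]
variable (p : ℕ) [Fact p.Prime] [CharP F p]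
variable {G : Type*} [Group G] [Finite G] (ι : G →* Γ.isom)

/-- The hypotheses on a group of isometries. -/
structure Ample : Prop where
  inj : Function.Injective ι
  unip_le : ∀ C : Γ.Flag, C.unip ≤ ι.range
  mid : ∀ g : G, (∃ k, g ^ p ^ k = 1) → ∀ C : Γ.Flag, ι g • C = C →
    ∀ v ∈ Γ.pp (C.x Γ.m), (ι g : V ≃ₗ[F] V) v - v ∈ C.x Γ.m
  no_swap : ∀ g : G, (∃ k, g ^ p ^ k = 1) → ∀ C : Γ.Flag, ∀ k, k + 1 = Γ.m →
    Adj (ι g • C) C k → ι g • C ≠ C → ∃ E, Adj E C k ∧ E ≠ C ∧ E ≠ ι g • C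
  thick_or : 2 ≤ Γ.m ∨ ∀ C D : Γ.Flag, ∀ k, k + 1 = Γ.m → Adj D C k → D ≠ C →
    ∃ E, Adj E C k ∧ E ≠ C ∧ E ≠ D

/-- The representation on cusp functions. -/
noncomputable def rep [Fintype Γ.Flag] : Representation ℂ G Γ.cusp where
  toFun g := (perm (ι g)).restrict fun _ h => perm_mem (ι g) h
  map_one' := by ext f D; simp
  map_mul' g h := by
    ext f D
    simp [perm_apply]

theorem rep_apply [Fintype Γ.Flag] (g : G) (f : Γ.cusp) (D : Γ.Flag) :
    ((rep ι g f : Γ.cusp) : Γ.Flag → ℂ) D = (f : Γ.Flag → ℂ) ((ι g)⁻¹ • D) := rfl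

variable {p ι} (A : Ample p ι)
include A

theorem mem_unip {g : G} (hg : ∃ k, g ^ p ^ k = 1) {C : Γ.Flag} (hC : ι g • C = C) :
    ι g ∈ C.unip := by
  refine C.mem_unip_iff.2 ⟨hC, fun i hi v hv => ?_, A.mid g hg C hC⟩
  obtain ⟨k, hk⟩ := hg
  have hpres : ∀ j, ∀ w ∈ C.x j, (ι g : V ≃ₗ[F] V) w ∈ C.x j := fun j w hw => by
    have h := Flag.mem_smul (ι g) hw
    rwa [hC] at h
  refine sub_mem_of_pow p (C.mono i) (by rw [C.dim _ hi, C.dim _ hi.le]) _ (hpres i) (hpres (i + 1))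
    (k := k) ?_ hv
  have h := congrArg (fun x : Γ.isom => (x : V ≃ₗ[F] V)) (congrArg ι hk)
  simpa using h

theorem fixed_of_comm [Fintype Γ.Flag] {g : G} {C : Γ.Flag}
    (hg : ∀ u ∈ C.unip, u • (ι g • C) = ι g • C) :
    ι g • C = C ∨ ∃ k, k + 1 = Γ.m ∧ ι g • C ≠ C ∧ Adj (ι g • C) C k ∧
      ∀ E, Adj E C k → E = C ∨ E = ι g • C := by
  haveI := Finite.of_injective (fun x : Γ.isom => ⇑(x : V ≃ₗ[F] V))
    (DFunLike.coe_injective.comp Subtype.val_injective)
  haveI := Fintype.ofFinite Γ.isom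
  exact fixed_unip hg

theorem center_smul [Fintype Γ.Flag] {z : G} (hz : z ∈ Subgroup.center G) (C : Γ.Flag) :
    ι z • C = C := by
  have key : ∀ D : Γ.Flag, ι z • D = D ∨ ∃ k, k + 1 = Γ.m ∧ ι z • D ≠ D ∧ Adj (ι z • D) D k ∧
      ∀ E, Adj E D k → E = D ∨ E = ι z • D := fun D => fixed_of_comm A fun u hu => by
    obtain ⟨g, rfl⟩ := A.unip_le D hu
    rw [← mul_smul, ← map_mul, Subgroup.mem_center_iff.1 hz g, map_mul, mul_smul, D.unip_smul hu]
  rcases A.thick_or with hm | hthick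
  · refine Flag.ext' fun i hi => ?_
    have hlow : ∀ D : Γ.Flag, ∀ j < Γ.m, (ι z • D).x j = D.x j := fun D j hj => by
      rcases key D with h | ⟨k, hk, -, ha, -⟩
      · rw [h]
      · exact ha j hj.le (by omega)
    rcases eq_or_lt_of_le hi with rfl | hlt
    · obtain ⟨X, hX⟩ := C.exists_opp
      obtain ⟨φ, hφ, -⟩ := Frame.exists_frame hX
      refine Submodule.eq_of_le_of_finrank_le ?_ (by rw [(ι z • C).dim _ le_rfl, C.dim _ le_rfl])
      conv_lhs => rw [← hφ]
      rw [Flag.smul_x, Submodule.map_le_iff_le_comap]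
      refine φ.member_le (fun j _ => ?_ : ∀ j : Fin Γ.m, (j : ℕ) < Γ.m →
        φ.pvec (Frame.diag fun _ => false) j ∈ (C.x Γ.m).comap ((ι z : V ≃ₗ[F] V) : V →ₗ[F] V))
      let w : Γ.SPerm := (Equiv.swap ⟨0, by omega⟩ j, fun _ => false)
      have hmem : φ.vec (j, false) ∈ (φ.flag w).x 1 := by
        have h := φ.pvec_mem w (j := ⟨0, by omega⟩) (i := 1) Nat.zero_lt_one
        simpa [Frame.pvec, w, Frame.flag] using h
      have h2 := Flag.mem_smul (ι z) hmem
      rw [hlow _ 1 (by omega)] at h2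
      have h3 : (φ.flag w).x 1 ≤ C.x Γ.m := by
        rw [← hφ]
        refine φ.member_le fun a _ => ?_
        exact φ.pvec_mem (Frame.diag fun _ => false) (j := w.1 a) (w.1 a).2
      exact h3 h2
    · exact hlow C i hlt
  · rcases key C with h | ⟨k, hk, hne, ha, hall⟩
    · exact h
    · obtain ⟨E, hE, h1, h2⟩ := hthick C _ k hk ha hne
      exact ((hall E hE).elim h1 h2).elim

theorem unit_mem_sub [Fintype Γ.Flag] (W : Subrepresentation (rep ι)) {f : Γ.cusp}
    (hf : f ∈ W.toSubmodule) {C : Γ.Flag} (h0 : (f : Γ.Flag → ℂ) C ≠ 0) :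
    (⟨unit C, unit_mem C⟩ : Γ.cusp) ∈ W.toSubmodule := by
  haveI := Finite.of_injective (fun x : Γ.isom => ⇑(x : V ≃ₗ[F] V))
    (DFunLike.coe_injective.comp Subtype.val_injective)
  haveI := Fintype.ofFinite Γ.isom
  have hC : ∀ u ∈ C.unip, u • C = C := fun u hu => C.unip_smul hu
  have hsum : osum C (f : Γ.Flag → ℂ) • (⟨unit C, unit_mem C⟩ : Γ.cusp) ∈ W.toSubmodule := by
    have hex : ∀ u : C.unip, ∃ g, ι g = (u : Γ.isom) := fun u => A.unip_le C u.2
    choose g hg using hex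
    have : ∑ u : C.unip, rep ι (g u) f ∈ W.toSubmodule :=
      sum_mem fun u _ => W.apply_mem_toSubmodule _ hf
    convert this using 1
    refine Subtype.ext ?_
    rw [Submodule.coe_sum, Submodule.coe_smul]
    rw [← sum_unip C f.2]
    refine Finset.sum_congr rfl fun u _ => ?_
    funext D
    rw [rep_apply, perm_apply, hg]
  have := W.toSubmodule.smul_mem (osum C (f : Γ.Flag → ℂ))⁻¹ hsum
  rwa [inv_smul_smul₀ (osum_ne_zero hC f.2 h0).1] at this

/-- Every nonzero invariant subspace sees every flag. -/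
theorem exists_ne_zero [Fintype Γ.Flag] (W : Subrepresentation (rep ι)) (hW : W ≠ ⊥) (C : Γ.Flag) :
    ∃ f ∈ W.toSubmodule, ((f : Γ.cusp) : Γ.Flag → ℂ) C ≠ 0 := by
  set K := Finset.univ.filter fun D => ∃ f ∈ W.toSubmodule, ((f : Γ.cusp) : Γ.Flag → ℂ) D ≠ 0 with hK
  have hopp : ∀ D E, D ∈ K → Opp D E → E ∈ K := by
    intro D E hD hDE
    simp only [hK, Finset.mem_filter, Finset.mem_univ, true_and] at hD ⊢
    obtain ⟨f, hf, h0⟩ := hD
    exact ⟨_, unit_mem_sub A W hf h0, by simp [unit_opp hDE]⟩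
  obtain ⟨f, hf, hf0⟩ : ∃ f ∈ W.toSubmodule, f ≠ 0 := by
    apply (Submodule.ne_bot_iff _).1
    intro h
    exact hW (Subrepresentation.toSubmodule_injective h)
  obtain ⟨D, hD⟩ : ∃ D, (f : Γ.Flag → ℂ) D ≠ 0 := Function.ne_iff.1 fun h => hf0 (Subtype.ext h)
  obtain ⟨E₀, hE₀, hmin⟩ := Finset.exists_min_image K (Flag.μ C)
    ⟨D, by simp only [hK, Finset.mem_filter, Finset.mem_univ, true_and]; exact ⟨f, hf, hD⟩⟩
  suffices C ∈ K by simpa [hK] using this
  by_cases hCE : Opp C E₀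
  · exact hopp _ _ hE₀ hCE.symm
  exfalso
  obtain ⟨k, hk, hs⟩ := exists_star C E₀ hCE
  obtain ⟨X, hX⟩ := E₀.exists_opp
  have hXK : X ∈ K := hopp _ _ hE₀ hX
  have bad : ∀ E, Adj E E₀ k → E ≠ E₀ → E ∉ K := fun E ha hne hEK =>
    absurd (hmin E hEK) (not_le.2 (μ_lt C E₀ hk hs ha hne))
  obtain ⟨E, ha, hne, -⟩ := E₀.exists_other hk
  have hpanel : Γ.panel E₀ k = {E₀, E} := by
    ext Y
    simp only [mem_panel, Finset.mem_insert, Finset.mem_singleton]
    refine ⟨fun hY => ?_, ?_⟩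
    · by_contra hYne
      push Not at hYne
      exact hYne.2 (eq_of_not_opp X hk hX.symm hY ha (fun h => bad Y hY hYne.1 (hopp _ _ hXK h))
        fun h => bad E ha hne (hopp _ _ hXK h))
    · rintro (rfl | rfl)
      · exact Adj.refl _ _
      · exact ha
  simp only [hK, Finset.mem_filter, Finset.mem_univ, true_and] at hE₀
  obtain ⟨f, hf, h0⟩ := hE₀
  have h2 := f.2 E₀ k hk
  rw [hpanel, Finset.sum_pair hne.symm] at h2
  refine bad E ha hne ?_
  simp only [hK, Finset.mem_filter, Finset.mem_univ, true_and]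
  exact ⟨f, hf, fun he => h0 (by rwa [he, add_zero] at h2)⟩

theorem irreducible [Fintype Γ.Flag] : (rep ι).IsIrreducible := by
  obtain ⟨X, hX, hXd⟩ := Γ.full'
  have hne : Nonempty Γ.Flag := by
    obtain ⟨b⟩ : Nonempty (Module.Basis (Fin Γ.m) F X) :=
      ⟨(Module.finBasis F X).reindex (finCongr hXd)⟩
    refine ⟨⟨fun i => Submodule.span F (Set.range fun j : {j : Fin Γ.m // (j : ℕ) < i} => (b j.1 : V)),
      fun i => Submodule.span_le.2 ?_, fun i hi => ?_, ?_, fun i hi => ?_⟩⟩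
    · rintro _ ⟨j, rfl⟩
      exact Submodule.subset_span ⟨⟨j.1, Nat.lt_succ_of_lt j.2⟩, rfl⟩
    · rw [show finrank F ↥(Submodule.span F
          (Set.range fun j : {j : Fin Γ.m // (j : ℕ) < i} => (b j.1 : V))) =
          Fintype.card {j : Fin Γ.m // (j : ℕ) < i} from
        finrank_span_eq_card (((b.linearIndependent.map' X.subtype (Submodule.ker_subtype X))).comp
          _ Subtype.val_injective)]
      let e : Fin i ≃ {j : Fin Γ.m // (j : ℕ) < i} :=
        { toFun := fun j => ⟨⟨j, by omega⟩, j.2⟩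
          invFun := fun j => ⟨j.1, j.2⟩
          left_inv := fun _ => rfl
          right_inv := fun _ => rfl }
      rw [← Fintype.card_congr e, Fintype.card_fin]
    · exact Geo.TI.mono Γ hX (Submodule.span_le.2 (by rintro _ ⟨j, rfl⟩; exact (b j.1).2))
    · refine le_antisymm (Submodule.span_le.2 ?_) (Submodule.span_le.2 ?_) <;>
        rintro _ ⟨j, rfl⟩
      · exact Submodule.subset_span ⟨⟨j.1, j.1.2⟩, rfl⟩
      · exact Submodule.subset_span ⟨⟨j.1, j.2.trans_le hi⟩, rfl⟩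
  obtain ⟨C⟩ := hne
  haveI : NeZero (Nat.card G : ℂ) := ⟨by exact_mod_cast Nat.card_pos.ne'⟩
  haveI : IsSemisimpleModule (MonoidAlgebra ℂ G) (rep ι).asModule := inferInstance
  haveI : ComplementedLattice (Subrepresentation (rep ι)) :=
    (Representation.isSemisimpleRepresentation_iff_isSemisimpleModule_asModule _).2 inferInstance
  have hu : ∀ W : Subrepresentation (rep ι), W ≠ ⊥ →
      (⟨unit C, unit_mem C⟩ : Γ.cusp) ∈ W.toSubmodule := fun W hW => by
    obtain ⟨f, hf, h0⟩ := exists_ne_zero A W hW C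
    exact unit_mem_sub A W hf h0
  have hunit : (⟨unit C, unit_mem C⟩ : Γ.cusp) ≠ 0 := fun h => by
    obtain ⟨E, hE⟩ := C.exists_opp
    have := congrFun (congrArg Subtype.val h) E
    simp [unit_opp hE] at this
  haveI : Nontrivial (Subrepresentation (rep ι)) := ⟨⊥, ⊤, fun h => hunit <| by
    have : (⟨unit C, unit_mem C⟩ : Γ.cusp) ∈ (⊤ : Subrepresentation (rep ι)).toSubmodule :=
      Submodule.mem_top
    rw [← h] at this
    exact (Submodule.mem_bot ℂ).1 this⟩
  refine ⟨fun W => ?_⟩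
  by_contra hW
  push Not at hW
  obtain ⟨W', hW'⟩ := exists_isCompl W
  have hW'0 : W' ≠ ⊥ := fun h => hW.2 (by simpa [h] using hW'.sup_eq_top)
  have := congrArg Subrepresentation.toSubmodule hW'.inf_eq_bot
  rw [Subrepresentation.toSubmodule_inf] at this
  have hm : (⟨unit C, unit_mem C⟩ : Γ.cusp) ∈ W.toSubmodule ⊓ W'.toSubmodule :=
    ⟨hu W hW.1, hu W' hW'0⟩
  rw [this] at hm
  exact hunit ((Submodule.mem_bot ℂ).1 hm)

theorem exists_sylow [Fintype Γ.Flag] (C : Γ.Flag) :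
    ∃ P : Sylow p G, (P : Subgroup G) = C.unip.comap ι := by
  have hU : IsPGroup p (C.unip.comap ι) :=
    (C.isPGroup_unip p).comap_of_injective ι A.inj
  obtain ⟨P, hP⟩ := hU.exists_le_sylow
  refine ⟨P, le_antisymm ?_ hP⟩
  by_contra hne
  haveI : Group.IsNilpotent P := P.isPGroup'.isNilpotent
  have hlt : (C.unip.comap ι).subgroupOf P < ⊤ := lt_top_iff_ne_top.2 fun h =>
    hne (Subgroup.subgroupOf_eq_top.1 h)
  obtain ⟨⟨g, hgP⟩, hgn, hgU⟩ :=
    SetLike.exists_of_lt (Group.normalizerCondition_of_isNilpotent _ hlt)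
  rw [Subgroup.mem_subgroupOf] at hgU
  have hgp : ∃ k, g ^ p ^ k = 1 := by
    obtain ⟨k, hk⟩ := P.isPGroup' ⟨g, hgP⟩
    exact ⟨k, congrArg Subtype.val hk⟩
  have hfix : ∀ u ∈ C.unip, u • (ι g • C) = ι g • C := by
    intro u hu
    obtain ⟨a, rfl⟩ := A.unip_le C hu
    have ha : a ∈ C.unip.comap ι := hu
    have h1 := (Subgroup.mem_normalizer_iff''.1 hgn ⟨a, hP ha⟩).1 (Subgroup.mem_subgroupOf.2 ha)
    rw [Subgroup.mem_subgroupOf, Subgroup.mem_comap] at h1
    have h2 := C.unip_smul h1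
    simp only [Subgroup.coe_mul, InvMemClass.coe_inv, map_mul, map_inv, mul_smul] at h2
    exact inv_smul_eq_iff.1 h2
  rcases fixed_of_comm A hfix with h | ⟨k, hk, hne', hadj, hall⟩
  · exact hgU (mem_unip A hgp h)
  · obtain ⟨E, hE, h1, h2⟩ := A.no_swap g hgp C k hk hadj hne'
    exact (hall E hE).elim h1 h2

theorem center_pow_eq_one [Fintype Γ.Flag] {z : G} (hz : z ∈ Subgroup.center G) (C : Γ.Flag)
    (hzp : ∃ k, z ^ p ^ k = 1) : z = 1 := by
  obtain ⟨E, hE⟩ := C.exists_opp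
  refine A.inj ?_
  rw [map_one]
  exact Frame.eq_one_of_smul_eq hE (mem_unip A hzp (center_smul A hz C)) (center_smul A hz E)

/-- The Steinberg character modulo the centre. -/
theorem exists_steinberg :
    ∃ χ : G ⧸ Subgroup.center G → ℂ, Cfsg.IsIrrCharacter (G ⧸ Subgroup.center G) χ ∧
      ∀ P : Sylow p (G ⧸ Subgroup.center G), χ 1 = Nat.card P ∧
        ∀ x : G ⧸ Subgroup.center G, x ∈ P → x ≠ 1 → χ x = 0 := by
  haveI := Fintype.ofFinite Γ.Flag
  have hirr := irreducible A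
  haveI := hirr
  have hχ := CfsgLib.Characters.isIrrCharacter_character (rep ι)
  obtain ⟨ψ, hψ, hψv⟩ := CfsgLib.Characters.exists_irr_quotient (Subgroup.center G) hχ fun z hz => by
    have : rep ι z = 1 := by
      ext f D
      rw [rep_apply, Module.End.one_apply, ← map_inv,
        center_smul A (Subgroup.inv_mem _ hz) D]
    show LinearMap.trace ℂ _ (rep ι z) = LinearMap.trace ℂ _ (rep ι 1)
    rw [this, map_one (rep ι)]
  refine ⟨ψ, hψ, fun P => ?_⟩
  obtain ⟨C⟩ : Nonempty Γ.Flag := by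
    by_contra h
    rw [not_nonempty_iff] at h
    haveI := h
    haveI : Subsingleton (Subrepresentation (rep ι)) :=
      Subrepresentation.toSubmodule_injective.subsingleton
    exact not_subsingleton (Subrepresentation (rep ι)) inferInstance
  obtain ⟨Q, hQ⟩ := exists_sylow A C
  have hdeg : ψ 1 = (Nat.card C.unip : ℂ) := by
    have h1 := hψv 1
    rw [QuotientGroup.mk_one, Representation.char_one, finrank_cusp C,
      ← Nat.card_eq_fintype_card, ← card_unip C] at h1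
    exact h1.symm
  have hZ : ¬ p ∣ Nat.card (Subgroup.center G) := by
    intro hdvd
    obtain ⟨z, hz⟩ := exists_prime_orderOf_dvd_card' p hdvd
    rw [← Subgroup.orderOf_coe] at hz
    have := center_pow_eq_one A z.2 C ⟨1, by rw [pow_one, ← hz]; exact pow_orderOf_eq_one _⟩
    rw [this, orderOf_one] at hz
    exact (Fact.out : p.Prime).one_lt.ne hz
  have hcQ : Nat.card Q = Nat.card C.unip := by
    rw [show Nat.card Q = Nat.card (Q : Subgroup G) from rfl, hQ]
    refine Nat.card_congr (Equiv.ofBijective (fun x => (⟨ι x.1, x.2⟩ : C.unip)) ⟨fun a b h => ?_, ?_⟩)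
    · exact Subtype.ext (A.inj (congrArg Subtype.val h))
    · rintro ⟨u, hu⟩
      obtain ⟨g, rfl⟩ := A.unip_le C hu
      exact ⟨⟨g, hu⟩, rfl⟩
  have hfac : (Nat.card (G ⧸ Subgroup.center G)).factorization p = (Nat.card G).factorization p := by
    rw [Subgroup.card_eq_card_quotient_mul_card_subgroup (Subgroup.center G),
      Nat.factorization_mul Nat.card_pos.ne' Nat.card_pos.ne', Finsupp.add_apply,
      Nat.factorization_eq_zero_of_not_dvd hZ, add_zero]
  set N := (Nat.card G).factorization p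
  have hU : Nat.card C.unip = p ^ N := by rw [← hcQ, Q.card_eq_multiplicity]
  refine ⟨by rw [hdeg, hU, P.card_eq_multiplicity, hfac], fun x hx hx1 => ?_⟩
  haveI := Fintype.ofFinite (G ⧸ Subgroup.center G)
  obtain ⟨n, ρ, hρ, hρψ⟩ := hψ
  haveI := hρ
  rw [← hρψ]
  have hm : Module.finrank ℂ (Fin n → ℂ) = p ^ N := by
    have h1 := Representation.char_one ρ
    rw [hρψ, hdeg, hU] at h1
    exact_mod_cast h1.symm
  refine CfsgLib.Characters.char_eq_zero_of_defect_zero ρ (Fact.out : p.Prime) (n := N)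
    (hfac ▸ Nat.ordProj_dvd _ p)
    (hfac ▸ Nat.pow_succ_factorization_not_dvd Nat.card_pos.ne' (Fact.out : p.Prime))
    (hm ▸ dvd_rfl) x ?_
  obtain ⟨k, hk⟩ := IsPGroup.iff_orderOf.1 P.isPGroup' ⟨x, hx⟩
  rw [Subgroup.orderOf_mk] at hk
  rw [hk]
  exact dvd_pow_self p (by rintro rfl; rw [pow_zero, orderOf_eq_one_iff] at hk; exact hx1 hk)

end Geo

end CfsgLib.ChamberSt
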