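import Cfsg.Agent.ChamberSt.Apartment

/-!
# The flags fixed by a unipotent group
-/

set_option autoImplicit false
set_option linter.unusedSectionVars false

namespace CfsgLib.ChamberSt.Geo

open Module CfsgLib.ChamberSt.Geo.Flag
open scoped Classical

variable {F V : Type*} [Field F] [AddCommGroup V] [Module F V] {Γ : Geo F V} [FiniteDimensional F V]
variable [Fintype Γ.Flag] [Finite V]

/-- The action on functions. -/
noncomputable def perm : Representation ℂ Γ.isom (Γ.Flag → ℂ) where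
  toFun g :=
    { toFun := fun f D => f (g⁻¹ • D)
      map_add' := fun _ _ => rfl
      map_smul' := fun _ _ => rfl }
  map_one' := by
    ext f D
    simp
  map_mul' g h := by
    ext f D
    simp [mul_smul]

theorem perm_apply (g : Γ.isom) (f : Γ.Flag → ℂ) (D : Γ.Flag) : perm g f D = f (g⁻¹ • D) := rfl

theorem perm_mem (g : Γ.isom) {f : Γ.Flag → ℂ} (hf : f ∈ Γ.cusp) : perm g f ∈ Γ.cusp := by
  intro D k hk
  rw [← hf (g⁻¹ • D) k hk]
  refine Finset.sum_bij (fun E _ => g⁻¹ • E) (fun E hE => ?_) (fun a _ b _ h => by simpa using h)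
    (fun E hE => ⟨g • E, ?_, by simp⟩) (fun E _ => rfl)
  · rw [mem_panel] at hE ⊢
    exact hE.smul _
  · rw [mem_panel] at hE ⊢
    simpa using hE.smul g

/-- The sum over the opposite flags. -/
noncomputable def osum (C : Γ.Flag) (f : Γ.Flag → ℂ) : ℂ := ∑ E : {E // Opp C E}, f E

/-- The cusp function constant one on the opposite flags. -/
noncomputable def unit (C : Γ.Flag) : Γ.Flag → ℂ := ((cuspEquiv C).symm fun _ => 1 : Γ.cusp)

theorem unit_mem (C : Γ.Flag) : unit C ∈ Γ.cusp := SetLike.coe_mem _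

theorem unit_opp {C E : Γ.Flag} (h : Opp C E) : unit C E = 1 := by
  have := congrFun ((cuspEquiv C).apply_symm_apply fun _ => (1 : ℂ)) ⟨E, h⟩
  exact this

theorem smul_opp {C E : Γ.Flag} (u : C.unip) (h : Opp C E) : Opp C ((u : Γ.isom) • E) := by
  have := Opp.smul (u : Γ.isom) h
  rwa [C.unip_smul u.2] at this

theorem sum_unip [Fintype Γ.isom] (C : Γ.Flag) {f : Γ.Flag → ℂ} (hf : f ∈ Γ.cusp) :
    ∑ u : C.unip, perm (u : Γ.isom) f = osum C f • unit C := by
  refine sub_eq_zero.1 (eq_zero_of_opp C (Γ.cusp.sub_mem (sum_mem fun u _ => perm_mem _ hf)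
    (Γ.cusp.smul_mem _ (unit_mem C))) fun E hE => ?_)
  rw [Pi.sub_apply, Pi.smul_apply, unit_opp hE, smul_eq_mul, mul_one, Finset.sum_apply, sub_eq_zero]
  simp only [perm_apply]
  rw [osum, ← Equiv.sum_comp (Equiv.inv C.unip)]
  simp only [Equiv.inv_apply, InvMemClass.coe_inv, inv_inv]
  refine Fintype.sum_bijective (fun u : C.unip => (⟨(u : Γ.isom) • E, smul_opp u hE⟩ : {E // Opp C E}))
    ⟨fun u v e => ?_, fun E' => ?_⟩ _ _ fun _ => rfl
  · have e' : ((v : Γ.isom)⁻¹ * u) • E = E := by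
      rw [mul_smul, show (u : Γ.isom) • E = (v : Γ.isom) • E from congrArg Subtype.val e, inv_smul_smul]
    exact Subtype.ext (inv_mul_eq_one.1
      (Frame.eq_one_of_smul_eq hE (mul_mem (inv_mem v.2) u.2) e')).symm
  · obtain ⟨g, hg, hgE⟩ := Frame.exists_unip hE E'.2
    exact ⟨⟨g, hg⟩, Subtype.ext hgE⟩

theorem sum_unip_fixed [Fintype Γ.isom] {C D : Γ.Flag} (hD : ∀ u ∈ C.unip, u • D = D)
    {f : Γ.Flag → ℂ} (hf : f ∈ Γ.cusp) :
    (Fintype.card C.unip : ℂ) * f D = osum C f * unit C D := by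
  have h := congrFun (sum_unip C hf) D
  rw [Finset.sum_apply, Pi.smul_apply, smul_eq_mul] at h
  rw [← h]
  simp only [perm_apply]
  rw [Finset.sum_congr rfl fun (u : C.unip) _ => by rw [hD _ (inv_mem u.2)], Finset.sum_const,
    Finset.card_univ, nsmul_eq_mul]

theorem osum_ne_zero [Fintype Γ.isom] {C D : Γ.Flag} (hD : ∀ u ∈ C.unip, u • D = D)
    {f : Γ.Flag → ℂ} (hf : f ∈ Γ.cusp) (h0 : f D ≠ 0) : osum C f ≠ 0 ∧ unit C D ≠ 0 := by
  have h := sum_unip_fixed hD hf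
  have : (Fintype.card C.unip : ℂ) * f D ≠ 0 := mul_ne_zero (by exact_mod_cast Fintype.card_ne_zero) h0
  rw [h] at this
  exact mul_ne_zero_iff.1 this

theorem alt_ne_zero_of_fixed [Fintype Γ.isom] {C D : Γ.Flag} (hD : ∀ u ∈ C.unip, u • D = D)
    (φ : Γ.Frame) (hφ : φ.base = C) : φ.alt D ≠ 0 := by
  obtain ⟨X, hX⟩ := D.exists_opp
  obtain ⟨ψ, hψD, hψX⟩ := Frame.exists_frame hX.symm
  have hψ : ψ.alt D ≠ 0 := by
    rw [← hψX, ψ.alt_opp ψ.opp_base_anti, if_pos rfl]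
    exact Frame.sgn_ne_zero _
  obtain ⟨-, hunit⟩ := osum_ne_zero hD ψ.alt_mem hψ
  intro h0
  have h := sum_unip_fixed hD φ.alt_mem
  rw [h0, mul_zero, eq_comm, mul_eq_zero] at h
  rcases h with h | h
  · apply Frame.sgn_ne_zero (Frame.diag (Γ := Γ) fun _ => true)
    rw [osum, Finset.sum_eq_single (⟨φ.anti, hφ ▸ φ.opp_base_anti⟩ : {E // Opp C E})] at h
    · rwa [φ.alt_opp φ.opp_base_anti, if_pos rfl] at h
    · intro E _ hne
      rw [φ.alt_opp (hφ ▸ E.2), if_neg fun e => hne (Subtype.ext e.symm)]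
    · simp
  · exact hunit h

theorem flag_of_fixed [Fintype Γ.isom] {C D : Γ.Flag} (hD : ∀ u ∈ C.unip, u • D = D)
    (φ : Γ.Frame) (hφ : φ.base = C) {ε : Fin Γ.m → Bool}
    (h : Opp D (φ.flag (Frame.diag ε))) : D = φ.flag (Frame.diag fun j => !ε j) := by
  obtain ⟨w, rfl⟩ := φ.exists_flag_eq (alt_ne_zero_of_fixed hD φ hφ)
  rw [φ.eq_of_opp h.symm]

/-- A flag fixed by the unipotent group of `C` is `C`, or the only other one in its last panel. -/
theorem fixed_unip [Fintype Γ.isom] {C D : Γ.Flag} (hD : ∀ u ∈ C.unip, u • D = D) :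
    D = C ∨ ∃ k, k + 1 = Γ.m ∧ D ≠ C ∧ Adj D C k ∧ ∀ E, Adj E C k → E = C ∨ E = D := by
  by_cases hDC : D = C
  · exact Or.inl hDC
  right
  obtain ⟨X, hX⟩ := C.exists_opp
  have hne : (Finset.univ.filter fun E => Sub C E).Nonempty :=
    ⟨X, Finset.mem_filter.2 ⟨Finset.mem_univ _, hX.sub⟩⟩
  obtain ⟨E₀, hE₀, hmin⟩ := Finset.exists_min_image _ (Flag.μ D) hne
  simp only [Finset.mem_filter, Finset.mem_univ, true_and] at hE₀ hmin
  have hDE : Opp D E₀ := by
    by_contra hno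
    obtain ⟨k, hk, hs⟩ := exists_star D E₀ hno
    obtain ⟨E, ha, hne', hthick⟩ := E₀.exists_other hk
    have bad : ∀ E', Adj E' E₀ k → E' ≠ E₀ → ¬ Sub C E' := fun E' ha' hne'' hsub =>
      absurd (hmin E' hsub) (not_le.2 (μ_lt D E₀ hk hs ha' hne''))
    by_cases hkm : k + 1 < Γ.m
    · obtain ⟨E', ha', hne'', hEE⟩ := hthick hkm
      have meets : ∀ Y, Adj Y E₀ k → Y ≠ E₀ → Y.x (k + 1) ⊓ Γ.pp (C.x (k + 1)) ≠ ⊥ := by
        intro Y hY hYne e
        refine bad Y hY hYne fun i hi => ?_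
        by_cases hik : i = k + 1
        · rw [hik, e]
        · rw [hY i hi.le hik]; exact hE₀ i hi
      exact hEE (eq_of_meet C hk hE₀ ha' ha (meets E' ha' hne'') (meets E ha hne'))
    · exact bad E ha hne' fun i hi => by rw [ha i hi.le (by omega)]; exact hE₀ i hi
  by_cases hCE : Opp C E₀
  · obtain ⟨φ, hφC, hφE⟩ := Frame.exists_frame hCE
    refine absurd ((flag_of_fixed hD φ hφC (ε := fun _ => true) ?_).trans ?_) hDC
    · rw [show φ.flag (Frame.diag fun _ => true) = E₀ from hφE]; exact hDE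
    · exact hφC
  have hm : 0 < Γ.m := by
    by_contra h0
    refine hCE fun i hi => ?_
    have hi0 : i = 0 := by omega
    subst hi0
    rw [E₀.x_zero, bot_inf_eq]
  obtain ⟨k, hkm⟩ : ∃ k, k + 1 = Γ.m := ⟨Γ.m - 1, by omega⟩
  have hk : k < Γ.m := by omega
  have meet_of : ∀ Y, Sub C Y → ¬ Opp C Y → Y.x (k + 1) ⊓ Γ.pp (C.x (k + 1)) ≠ ⊥ :=
    fun Y hY hn e => hn (hY.opp (by rw [← hkm, e]))
  obtain ⟨E₁, ha₁, hne₁, -⟩ := E₀.exists_other hk
  have hsub₁ : Sub C E₁ := fun i hi => by rw [ha₁ i hi.le (by omega)]; exact hE₀ i hi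
  have hE₁ : Opp C E₁ := by
    by_contra hn
    exact hne₁ (eq_of_meet C hk hE₀ ha₁ (Adj.refl E₀ k) (meet_of _ hsub₁ hn) (meet_of _ hE₀ hCE))
  obtain ⟨φ, hφC, hφE⟩ := Frame.exists_frame hE₁
  set w₁ : Γ.SPerm := Frame.step k hk (Frame.diag fun _ => true) with hw₁
  have hw₁' : w₁ = Frame.diag (Function.update (fun _ => true) ⟨k, hk⟩ false) := by
    rw [hw₁, Frame.step, dif_neg (by omega)]; rfl
  have haF : Adj (φ.flag w₁) E₁ k := by rw [← hφE]; exact φ.adj_step k hk _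
  have hFsub : Sub C (φ.flag w₁) := fun i hi => by rw [haF i hi.le (by omega)]; exact hsub₁ i hi
  have hFnot : ¬ Opp C (φ.flag w₁) := fun h => by
    have := φ.eq_diag_of_opp (hφC ▸ h)
    rw [hw₁'] at this
    simpa using congrFun (congrArg Prod.snd this) ⟨k, hk⟩
  have hE₀eq : φ.flag w₁ = E₀ := eq_of_meet C hk hE₀ (haF.trans ha₁) (Adj.refl E₀ k)
    (meet_of _ hFsub hFnot) (meet_of _ hE₀ hCE)
  have hDeq := flag_of_fixed hD φ hφC (ε := Function.update (fun _ => true) ⟨k, hk⟩ false)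
    (by rw [← hw₁', hE₀eq]; exact hDE)
  have hDadj : Adj D C k := by
    have e : (Frame.diag fun j => !Function.update (fun _ => true) (⟨k, hk⟩ : Fin Γ.m) false j) =
        Frame.step k hk (Frame.diag (Γ := Γ) fun _ => false) := by
      rw [Frame.step, dif_neg (by omega)]
      refine Prod.ext rfl (funext fun j => ?_)
      by_cases hj : j = ⟨k, hk⟩
      · subst hj; simp
      · simp [hj]
    rw [hDeq, e, ← hφC]
    exact φ.adj_step k hk _
  refine ⟨k, hkm, hDC, hDadj, fun E hE => ?_⟩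
  by_contra hE'
  push Not at hE'
  obtain ⟨Y, hY1, hY2⟩ := exists_opp_both hkm hDadj hE hE'.2 hE'.1 hX
  obtain ⟨ψ, hψC, hψY⟩ := Frame.exists_frame hY1
  refine hDC ((flag_of_fixed hD ψ hψC (ε := fun _ => true) ?_).trans hψC)
  rw [show ψ.flag (Frame.diag fun _ => true) = Y from hψY]; exact hY2

end CfsgLib.ChamberSt.Geo
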