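import Cfsg.Agent.ChamberSt.Space

/-!
# Frames and their apartments

A frame is a hyperbolic system of `2m` singular vectors.  Its apartment consists of the flags
spanned by signed permutations of it.
-/

set_option autoImplicit false
set_option linter.unusedSectionVars false

namespace CfsgLib.ChamberSt.Geo

open Module Submodule CfsgLib.ChamberSt.Geo.Flag

variable {F V : Type*} [Field F] [AddCommGroup V] [Module F V] (Γ : Geo F V) [FiniteDimensional F V]

/-- `m` hyperbolic pairs. -/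
structure Frame where
  vec : Fin Γ.m × Bool → V
  sing : ∀ a, Γ.q (vec a) = 0
  orth : ∀ a b, b ≠ (a.1, !a.2) → Γ.B (vec a) (vec b) = 0
  norm : ∀ i, Γ.B (vec (i, false)) (vec (i, true)) = 1

/-- Signed permutations. -/
abbrev SPerm : Type := Equiv.Perm (Fin Γ.m) × (Fin Γ.m → Bool)

namespace Frame

variable {Γ} (φ : Γ.Frame)

theorem pair_ne_zero (a : Fin Γ.m × Bool) : Γ.B (φ.vec a) (φ.vec (a.1, !a.2)) ≠ 0 := by
  obtain ⟨i, _ | _⟩ := a
  · rw [Bool.not_false, φ.norm]; exact one_ne_zero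
  · intro h
    exact one_ne_zero ((φ.norm i).symm.trans (Γ.refl _ _ h))

theorem linearIndependent : LinearIndependent F φ.vec := by
  refine Fintype.linearIndependent_iff.2 fun c hc a => ?_
  have h := congrArg (Γ.B (φ.vec (a.1, !a.2))) hc
  rw [map_sum, map_zero, Finset.sum_eq_single a] at h
  · rw [map_smul, smul_eq_mul] at h
    refine (mul_eq_zero.1 h).resolve_right fun e => φ.pair_ne_zero (a.1, !a.2) ?_
    simpa using e
  · intro b _ hb
    rw [map_smul, φ.orth _ _ (by simpa using hb), smul_zero]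
  · simp

/-- The vectors of a signed permutation, in order. -/
def pvec (w : Γ.SPerm) (j : Fin Γ.m) : V := φ.vec (w.1 j, w.2 j)

/-- The span of the first `i` vectors. -/
def member (w : Γ.SPerm) (i : ℕ) : Submodule F V :=
  span F (Set.range fun j : {j : Fin Γ.m // (j : ℕ) < i} => φ.pvec w j.1)

theorem pvec_inj (w : Γ.SPerm) : Function.Injective fun j : Fin Γ.m => ((w.1 j, w.2 j) : Fin Γ.m × Bool) :=
  fun _ _ h => w.1.injective (congrArg Prod.fst h)

theorem finrank_member (w : Γ.SPerm) (i : ℕ) (hi : i ≤ Γ.m) : finrank F (φ.member w i) = i := by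
  unfold member
  rw [show finrank F ↥(span F (Set.range fun j : {j : Fin Γ.m // (j : ℕ) < i} => φ.pvec w j.1)) =
    Fintype.card {j : Fin Γ.m // (j : ℕ) < i} from
    finrank_span_eq_card (φ.linearIndependent.comp _ ((pvec_inj w).comp Subtype.val_injective))]
  let e : Fin i ≃ {j : Fin Γ.m // (j : ℕ) < i} :=
    { toFun := fun j => ⟨⟨j, by omega⟩, j.2⟩
      invFun := fun j => ⟨j.1, j.2⟩
      left_inv := fun _ => rfl
      right_inv := fun _ => rfl }
  rw [← Fintype.card_congr e, Fintype.card_fin]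

theorem pvec_mem (w : Γ.SPerm) {j : Fin Γ.m} {i : ℕ} (h : (j : ℕ) < i) : φ.pvec w j ∈ φ.member w i :=
  subset_span ⟨⟨j, h⟩, rfl⟩

theorem member_le {w : Γ.SPerm} {i : ℕ} {X : Submodule F V}
    (h : ∀ j : Fin Γ.m, (j : ℕ) < i → φ.pvec w j ∈ X) : φ.member w i ≤ X :=
  span_le.2 (Set.range_subset_iff.2 fun j => h _ j.2)

theorem TI_member (w : Γ.SPerm) (i : ℕ) : Γ.TI (φ.member w i) := by
  have hB : ∀ a b : Fin Γ.m, Γ.B (φ.pvec w a) (φ.pvec w b) = 0 := fun a b => φ.orth _ _ fun h => by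
    have e : b = a := w.1.injective (congrArg Prod.fst h)
    subst e
    simpa using congrArg Prod.snd h
  have h2 : ∀ v ∈ φ.member w i, ∀ b, Γ.B v (φ.pvec w b) = 0 := by
    intro v hv b
    induction hv using span_induction with
    | mem x hx => obtain ⟨a, rfl⟩ := hx; exact hB _ _
    | zero => simp
    | add x y _ _ hx hy => simp [hx, hy]
    | smul c x _ hx => simp [hx]
  have h3 : ∀ v ∈ φ.member w i, ∀ u ∈ φ.member w i, Γ.B v u = 0 := by
    intro v hv u hu
    induction hu using span_induction with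
    | mem x hx => obtain ⟨a, rfl⟩ := hx; exact h2 v hv _
    | zero => simp
    | add x y _ _ hx hy => simp [hx, hy]
    | smul c x _ hx => simp [hx]
  intro v hv
  refine ⟨?_, h3 v hv⟩
  induction hv using span_induction with
  | mem x hx => obtain ⟨a, rfl⟩ := hx; exact φ.sing _
  | zero => exact Γ.q_zero
  | add x y hx' hy' hx hy => rw [Γ.q_add, hx, hy, h3 x hx' y hy', map_zero, add_zero, add_zero]
  | smul c x _ hx => exact Γ.q_smul c x hx

/-- The flag of a signed permutation. -/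
def flag (w : Γ.SPerm) : Γ.Flag where
  x i := φ.member w i
  mono _ := φ.member_le fun _ hj => φ.pvec_mem w (Nat.lt_succ_of_lt hj)
  dim i hi := φ.finrank_member w i hi
  ti := φ.TI_member w _
  top _ hi := le_antisymm (φ.member_le fun j _ => φ.pvec_mem w j.2)
    (φ.member_le fun _ hj => φ.pvec_mem w (hj.trans_le hi))

/-- The signed permutation with the identity permutation. -/
abbrev diag (ε : Fin Γ.m → Bool) : Γ.SPerm := (1, ε)

/-- The flag of `e₁, e₂, …`. -/
def base : Γ.Flag := φ.flag (diag fun _ => false)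

/-- The flag of `f₁, f₂, …`. -/
def anti : Γ.Flag := φ.flag (diag fun _ => true)

theorem opp_neg (ε : Fin Γ.m → Bool) :
    Opp (φ.flag (diag ε)) (φ.flag (diag fun j => !ε j)) := by
  intro i hi
  rw [eq_bot_iff]
  rintro v ⟨hv, hp⟩
  change v ∈ φ.member _ i at hv
  rw [member, mem_span_range_iff_exists_fun] at hv
  obtain ⟨c, rfl⟩ := hv
  have hc : ∀ j, c j = 0 := by
    intro j
    have h := hp _ (φ.pvec_mem (diag ε) j.2)
    rw [map_sum, Finset.sum_eq_single j] at h
    · rw [map_smul, smul_eq_mul] at h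
      exact (mul_eq_zero.1 h).resolve_right (φ.pair_ne_zero (j.1, ε j.1))
    · intro b _ hb
      rw [map_smul, pvec, pvec, φ.orth _ _ (fun e => hb (Subtype.ext (congrArg Prod.fst e))), smul_zero]
    · simp
  simp [hc]

theorem opp_base_anti : Opp φ.base φ.anti := φ.opp_neg fun _ => false

theorem eq_of_opp {ε : Fin Γ.m → Bool} {w : Γ.SPerm} (h : Opp (φ.flag (diag ε)) (φ.flag w)) :
    w = diag fun j => !ε j := by
  have key : ∀ i ≤ Γ.m, ∀ v ≠ 0, v ∈ φ.member w i → (∀ j : Fin Γ.m, (j : ℕ) < i →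
      Γ.B (φ.pvec (diag ε) j) v = 0) → False := by
    intro i hi v hv0 hv hp
    refine hv0 ((mem_bot F).1 (h i hi ▸ ⟨hv, fun u hu => ?_⟩))
    induction hu using span_induction with
    | mem x hx => obtain ⟨a, rfl⟩ := hx; exact hp _ a.2
    | zero => simp
    | add x y _ _ hx hy => simp [hx, hy]
    | smul c x _ hx => simp [hx]
  have h0 : ∀ a, φ.vec a ≠ 0 := fun a => φ.linearIndependent.ne_zero a
  have hε : ∀ j, w.2 j = !ε (w.1 j) := by
    intro j
    by_contra hne
    refine key Γ.m le_rfl (φ.pvec w j) (h0 _) (φ.pvec_mem w j.2) fun a _ => φ.orth _ _ fun e => hne ?_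
    have e1 : w.1 j = a := congrArg Prod.fst e
    have e2 : w.2 j = !ε a := congrArg Prod.snd e
    rw [e2, e1]
  have hle : ∀ j, w.1 j ≤ j := by
    intro j
    by_contra hlt
    refine key (j + 1) j.2 (φ.pvec w j) (h0 _) (φ.pvec_mem w (Nat.lt_succ_self _)) fun a ha =>
      φ.orth _ _ fun e => hlt ?_
    have e1 : w.1 j = a := congrArg Prod.fst e
    rw [e1]
    exact Fin.le_def.2 (Nat.lt_succ_iff.1 ha)
  have h1 : ∀ n, ∀ j : Fin Γ.m, (j : ℕ) = n → w.1 j = j := by
    intro n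
    induction n using Nat.strong_induction_on with
    | _ n ih =>
      intro j hj
      by_contra hne
      have hlt : (w.1 j : ℕ) < n := hj ▸ lt_of_le_of_ne (hle j) fun e => hne (Fin.ext e)
      exact hne (w.1.injective (ih _ hlt (w.1 j) rfl))
  have hπ : w.1 = 1 := Equiv.ext fun j => h1 _ j rfl
  exact Prod.ext hπ (funext fun j => by rw [hε j, h1 _ j rfl])

theorem eq_diag_of_opp {w : Γ.SPerm} (h : Opp φ.base (φ.flag w)) : w = diag fun _ => true :=
  φ.eq_of_opp h

/-- A frame for every opposite pair. -/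
theorem exists_frame {C E : Γ.Flag} (h : Opp C E) : ∃ φ : Γ.Frame, φ.base = C ∧ φ.anti = E := by
  have pick : ∀ {C E : Γ.Flag}, Opp C E → ∀ i : Fin Γ.m,
      ∃ v ∈ C.x (i + 1) ⊓ Γ.pp (E.x i), v ≠ 0 := by
    intro C E h i
    apply (Submodule.ne_bot_iff _).1
    intro e
    have h1 := Submodule.finrank_sup_add_finrank_inf_eq (C.x (i + 1)) (Γ.pp (E.x i))
    rw [e, finrank_bot, C.dim _ i.2] at h1
    have h2 := Γ.finrank_pp_add (E.x i)
    rw [E.dim _ i.2.le] at h2
    have := Submodule.finrank_le (C.x (i + 1) ⊔ Γ.pp (E.x i))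
    omega
  choose e he he0 using pick h
  choose f hf hf0 using pick h.symm
  have hee : ∀ i j, Γ.B (e i) (e j) = 0 := fun i j =>
    (C.ti _ (by rw [← C.top Γ.m le_rfl]; exact C.le i.2 (he i).1)).2 _ (C.le j.2 (he j).1)
  have hff : ∀ i j, Γ.B (f i) (f j) = 0 := fun i j =>
    (E.ti _ (E.le i.2 (hf i).1)).2 _ (E.le j.2 (hf j).1)
  have hef : ∀ i j, i ≠ j → Γ.B (e i) (f j) = 0 := by
    intro i j hij
    rcases lt_or_gt_of_ne (fun e : (i : ℕ) = j => hij (Fin.ext e)) with hlt | hlt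
    · exact (hf j).2 _ (C.le hlt (he i).1)
    · exact Γ.refl _ _ ((he i).2 _ (E.le hlt (hf j).1))
  have hd : ∀ i, Γ.B (e i) (f i) ≠ 0 := by
    intro i hzero
    have hez : e i ∉ C.x i := fun hm => he0 i ((mem_bot F).1 (h.symm i i.2.le ▸ ⟨hm, (he i).2⟩))
    have hs : C.x i ⊔ span F {e i} = C.x (i + 1) := Flag.sup_eq_of_not_le (C.mono i)
      (by rw [C.dim _ i.2.le, C.dim _ i.2]) ((span_singleton_le_iff_mem _ _).2 (he i).1)
      fun hle => hez ((span_singleton_le_iff_mem _ _).1 hle)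
    refine hf0 i ((mem_bot F).1 (h (i + 1) i.2 ▸ ⟨(hf i).1, ?_⟩))
    rw [← hs, Γ.pp_sup]
    refine ⟨(hf i).2, fun u hu => ?_⟩
    obtain ⟨c, rfl⟩ := mem_span_singleton.1 hu
    simp [hzero]
  let φ : Γ.Frame :=
    { vec := fun a => if a.2 then (Γ.B (e a.1) (f a.1))⁻¹ • f a.1 else e a.1
      sing := fun a => by
        obtain ⟨i, _ | _⟩ := a
        · exact (C.ti _ (C.le i.2 (he i).1)).1
        · exact Γ.q_smul _ _ (E.ti _ (E.le i.2 (hf i).1)).1
      orth := fun a b hab => by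
        obtain ⟨i, _ | _⟩ := a <;> obtain ⟨j, _ | _⟩ := b
        · exact hee i j
        · simp [hef i j (fun e => hab (by simp [e]))]
        · simp [Γ.refl _ _ (hef j i (fun e => hab (by simp [e])))]
        · simp [hff i j]
      norm := fun i => by simp [inv_mul_cancel₀ (hd i)] }
  have key : ∀ (X : Γ.Flag) (b : Bool), (∀ i : Fin Γ.m, φ.vec (i, b) ∈ X.x (i + 1)) →
      φ.flag (diag fun _ => b) = X := by
    intro X b hm
    refine Flag.ext' fun i hi => eq_of_le_of_finrank_le (φ.member_le fun j hj => X.le hj (hm j)) ?_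
    rw [X.dim i hi]
    exact (φ.finrank_member _ i hi).ge
  exact ⟨φ, key C false fun i => (he i).1, key E true fun i => (E.x (i + 1)).smul_mem _ (hf i).1⟩

/-- The product with the reflection at the panel `k + 1`. -/
def step (k : ℕ) (hk : k < Γ.m) (w : Γ.SPerm) : Γ.SPerm :=
  if h : k + 1 < Γ.m then
    (w.1 * Equiv.swap ⟨k, hk⟩ ⟨k + 1, h⟩, w.2 ∘ Equiv.swap ⟨k, hk⟩ ⟨k + 1, h⟩)
  else (w.1, Function.update w.2 ⟨k, hk⟩ (!w.2 ⟨k, hk⟩))

theorem adj_step (k : ℕ) (hk : k < Γ.m) (w : Γ.SPerm) : Adj (φ.flag (step k hk w)) (φ.flag w) k := by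
  intro i hi hik
  change φ.member _ i = φ.member _ i
  refine eq_of_le_of_finrank_le (φ.member_le fun j hj => ?_)
    (by rw [φ.finrank_member _ i hi, φ.finrank_member _ i hi])
  unfold step
  split_ifs with h
  · show φ.vec (w.1 (Equiv.swap _ _ j), w.2 (Equiv.swap _ _ j)) ∈ _
    refine φ.pvec_mem w ?_
    by_cases h1 : j = ⟨k, hk⟩
    · subst h1; rw [Equiv.swap_apply_left]; change k + 1 < i; change k < i at hj; omega
    by_cases h2 : j = ⟨k + 1, h⟩
    · subst h2; rw [Equiv.swap_apply_right]; change k < i; change k + 1 < i at hj; omega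
    rw [Equiv.swap_apply_of_ne_of_ne h1 h2]; exact hj
  · have hne : j ≠ ⟨k, hk⟩ := fun e => by subst e; change k < i at hj; omega
    show φ.vec (w.1 j, Function.update w.2 ⟨k, hk⟩ (!w.2 ⟨k, hk⟩) j) ∈ _
    rw [Function.update_of_ne hne]
    exact φ.pvec_mem w hj

theorem step_step (k : ℕ) (hk : k < Γ.m) (w : Γ.SPerm) : step k hk (step k hk w) = w := by
  unfold step
  split_ifs with h
  · refine Prod.ext ?_ ?_
    · simp [mul_assoc]
    · funext j; simp
  · refine Prod.ext rfl ?_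
    funext j
    by_cases hj : j = ⟨k, hk⟩
    · subst hj; simp
    · simp [hj]

/-- The sign. -/
def sgn (w : Γ.SPerm) : ℂ := ((Equiv.Perm.sign w.1 : ℤ) : ℂ) * ∏ j, if w.2 j then -1 else 1

theorem sgn_ne_zero (w : Γ.SPerm) : sgn w ≠ 0 := by
  refine mul_ne_zero ?_ (Finset.prod_ne_zero_iff.2 fun j _ => by split_ifs <;> norm_num)
  rcases Int.units_eq_one_or (Equiv.Perm.sign w.1) with h | h <;> simp [h]

theorem sgn_step (k : ℕ) (hk : k < Γ.m) (w : Γ.SPerm) : sgn (step k hk w) = - sgn w := by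
  unfold sgn step
  split_ifs with h
  · have hne : (⟨k, hk⟩ : Fin Γ.m) ≠ ⟨k + 1, h⟩ := fun e => by simpa using congrArg Fin.val e
    have hp : (∏ j, if (w.2 ∘ Equiv.swap ⟨k, hk⟩ ⟨k + 1, h⟩) j then (-1 : ℂ) else 1) =
        ∏ j, if w.2 j then -1 else 1 :=
      Equiv.prod_comp (Equiv.swap _ _) fun j => if w.2 j then (-1 : ℂ) else 1
    simp only [hp, Equiv.Perm.sign_mul, Equiv.Perm.sign_swap hne]
    push_cast
    ring
  · rw [← Finset.mul_prod_erase _ _ (Finset.mem_univ (⟨k, hk⟩ : Fin Γ.m))]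
    conv_rhs => rw [← Finset.mul_prod_erase _ _ (Finset.mem_univ (⟨k, hk⟩ : Fin Γ.m))]
    have hp : ∀ j ∈ Finset.univ.erase (⟨k, hk⟩ : Fin Γ.m),
        (if Function.update w.2 ⟨k, hk⟩ (!w.2 ⟨k, hk⟩) j then (-1 : ℂ) else 1) =
          if w.2 j then -1 else 1 := fun j hj => by
      rw [Function.update_of_ne (Finset.ne_of_mem_erase hj)]
    rw [Finset.prod_congr rfl hp]
    simp only [Function.update_self]
    cases w.2 ⟨k, hk⟩ <;> simp

end Frame

end CfsgLib.ChamberSt.Geo
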