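import Cfsg.Agent.ChamberSt.Core

/-!
# Tools for checking the hypotheses
-/

set_option autoImplicit false
set_option linter.unusedSectionVars false
set_option linter.style.haveILetI false

namespace CfsgLib.ChamberSt.Geo

open Module CfsgLib.ChamberSt.Geo.Flag

variable {F V : Type*} [Field F] [AddCommGroup V] [Module F V] [FiniteDimensional F V] {Γ : Geo F V}

theorem apply_mem_pp {g : Γ.isom} {C : Γ.Flag} (hC : g • C = C) {i : ℕ} {v : V}
    (hv : v ∈ Γ.pp (C.x i)) : (g : V ≃ₗ[F] V) v ∈ Γ.pp (C.x i) := by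
  rw [← hC, Flag.smul_x, ← Γ.map_pp g.2]
  exact ⟨v, hv, rfl⟩

/-- An anisotropic part of dimension at most one is acted on trivially. -/
theorem mid_of_le (p : ℕ) [Fact p.Prime] [CharP F p] (hd : finrank F V ≤ 2 * Γ.m + 1) (g : Γ.isom)
    (hg : ∃ k, g ^ p ^ k = 1) (C : Γ.Flag) (hC : g • C = C) :
    ∀ v ∈ Γ.pp (C.x Γ.m), (g : V ≃ₗ[F] V) v - v ∈ C.x Γ.m := by
  intro v hv
  obtain ⟨k, hk⟩ := hg
  refine sub_mem_of_pow p (C.ti.le_pp Γ) ?_ _ (fun w hw => ?_) (fun w hw => apply_mem_pp hC hw)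
    (k := k) ?_ hv
  · have := Γ.finrank_pp_add (C.x Γ.m)
    rw [C.dim _ le_rfl] at this ⊢
    omega
  · have h := Flag.mem_smul g hw
    rwa [hC] at h
  · have h := congrArg (fun x : Γ.isom => (x : V ≃ₗ[F] V)) hk
    simpa using h

/-- An element of odd prime power order exchanges no two flags. -/
theorem no_swap_of_odd {p : ℕ} [Fact p.Prime] (hp : p ≠ 2) (g : Γ.isom) (hg : ∃ k, g ^ p ^ k = 1)
    (C : Γ.Flag) (k : ℕ) (ha : Adj (g • C) C k) (hne : g • C ≠ C) :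
    ∃ E, Adj E C k ∧ E ≠ C ∧ E ≠ g • C := by
  refine ⟨g • g • C, (ha.smul g).trans ha, fun h => hne ?_, fun h => hne (smul_left_cancel g h)⟩
  obtain ⟨j, hj⟩ := hg
  obtain ⟨c, hc⟩ := ((Fact.out : p.Prime).odd_of_ne_two hp).pow (n := j)
  have hfix : ∀ n : ℕ, (g * g) ^ n • C = C := by
    intro n
    induction n with
    | zero => simp
    | succ n ih => rw [pow_succ, mul_smul, mul_smul, h, ih]
  have e : g = (g * g) ^ (c + 1) := by
    rw [← pow_two, ← pow_mul, show 2 * (c + 1) = p ^ j + 1 by omega, pow_succ, hj, one_mul]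
  rw [e]
  exact hfix _

variable [Finite V] {p : ℕ} [Fact p.Prime] [CharP F p] {G : Type*} [Group G] [Finite G]
  {ι : G →* Γ.isom}

theorem map_pow_one {g : G} (hg : ∃ k, g ^ p ^ k = 1) : ∃ k, ι g ^ p ^ k = 1 :=
  hg.imp fun k hk => by rw [← map_pow, hk, map_one]

/-- The hypotheses when every last panel has three flags. -/
theorem ample_of_thick (hbig : 2 * Γ.m < finrank F V ∨ ∃ c : F, c ≠ 0 ∧ Γ.T c = 0)
    (inj : Function.Injective ι) (hle : ∀ C : Γ.Flag, C.unip ≤ ι.range)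
    (mid : ∀ g : G, (∃ k, g ^ p ^ k = 1) → ∀ C : Γ.Flag, ι g • C = C →
      ∀ v ∈ Γ.pp (C.x Γ.m), (ι g : V ≃ₗ[F] V) v - v ∈ C.x Γ.m) : Ample p ι where
  inj := inj
  unip_le := hle
  mid := mid
  no_swap _ _ C _ hk ha hne := C.exists_third hbig hk ha hne
  thick_or := Or.inr fun C _ _ hk ha hne => C.exists_third hbig hk ha hne

end CfsgLib.ChamberSt.Geo
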