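import Cfsg.Agent.ChamberSt.Instance
import Cfsg.Agent.Forms.OrthIndex
import Cfsg.Agent.Dickson.Matrix
import Cfsg.Agent.Spinor.StdForms

/-!
# The geometry of a quadratic form and `Ω`
-/

set_option autoImplicit false
set_option linter.unusedSectionVars false
set_option linter.style.haveILetI false

namespace CfsgLib.ChamberSt

open Module QuadraticMap

variable {F : Type*} [Field F] {ι : Type} [Fintype ι] [DecidableEq ι]

/-- A totally singular subspace has at most half the dimension. -/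
theorem two_mul_finrank_le {Q : QuadraticForm F (ι → F)} (hQ : (polarBilin Q).Nondegenerate)
    (X : Submodule F (ι → F)) (hX : ∀ u ∈ X, ∀ v ∈ X, polar Q u v = 0) :
    2 * finrank F X ≤ Fintype.card ι := by
  have h := LinearMap.BilinForm.finrank_orthogonal hQ X
  have hle : finrank F X ≤ finrank F (LinearMap.BilinForm.orthogonal (polarBilin Q) X) :=
    Submodule.finrank_mono fun v hv u hu => hX u hu v hv
  have hn : finrank F (ι → F) = Fintype.card ι := Module.finrank_fintype_fun_eq_card F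
  have := Submodule.finrank_le X
  omega

/-- The data of a quadratic form with Witt index `m`. -/
structure Witt (Q : QuadraticForm F (ι → F)) (m : ℕ) : Prop where
  nd : (polarBilin Q).Nondegenerate
  max' : ∀ X : Submodule F (ι → F), (∀ u ∈ X, Q u = 0 ∧ ∀ v ∈ X, polar Q u v = 0) → finrank F X ≤ m
  full' : ∃ X : Submodule F (ι → F), (∀ u ∈ X, Q u = 0) ∧ finrank F X = m

variable {Q : QuadraticForm F (ι → F)} {m : ℕ}

/-- The polar geometry of a quadratic form. -/
noncomputable def orthGeo (W : Witt Q m) : Geo F (ι → F) where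
  σ := RingHom.id F
  σσ _ := rfl
  B := polarBilin Q
  q v := Q v
  T := AddMonoidHom.id F
  m := m
  refl u v h := by
    rw [polarBilin_apply_apply] at h ⊢
    rwa [polar_comm]
  ε := 1
  herm u v := by
    rw [RingHom.id_apply, one_mul, polarBilin_apply_apply, polarBilin_apply_apply, polar_comm]
  nd x h := W.nd.1 x h
  q_add u v := by
    rw [AddMonoidHom.id_apply, polarBilin_apply_apply, polar]
    ring
  q_smul c v h := by rw [QuadraticMap.map_smul, h, smul_zero]
  q_self v h := by rw [polarBilin_apply_apply, polar_self, h, smul_zero]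
  hT v := ⟨Q v, rfl⟩
  max' X hX := W.max' X hX
  full' := by
    obtain ⟨X, hX, hd⟩ := W.full'
    refine ⟨X, fun u hu => ⟨hX u hu, fun v hv => ?_⟩, hd⟩
    rw [polarBilin_apply_apply, polar, hX _ (add_mem hu hv), hX u hu, hX v hv, sub_zero, sub_zero]

/-- The isometry group as isometries of the geometry. -/
noncomputable def orthHom (W : Witt Q m) :
    ↥(Cfsg.isometryGroup F ⇑Q) →* (orthGeo W).isom :=
  ((Dickson.orth Q).subtype.comp (Dickson.toOrth Q).toMonoidHom).codRestrict _ fun g =>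
    ⟨fun u v => Dickson.polar_map (Dickson.toOrth Q g) u v, fun v => (Dickson.toOrth Q g).2 v⟩

theorem orthHom_apply (W : Witt Q m) (g : ↥(Cfsg.isometryGroup F ⇑Q)) (v : ι → F) :
    (orthHom W g : (ι → F) ≃ₗ[F] (ι → F)) v =
      Matrix.mulVec ((g : GL ι F) : Matrix ι ι F) v := rfl

theorem orthHom_injective (W : Witt Q m) : Function.Injective (orthHom W) := fun _ _ e =>
  Subtype.ext <| Units.ext <| Matrix.ext_iff_mulVec.2 fun v =>
    LinearEquiv.congr_fun (congrArg Subtype.val e) v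

theorem orthHom_surjective (W : Witt Q m) : Function.Surjective (orthHom W) := fun u => by
  obtain ⟨g, hg⟩ := (Dickson.toOrth Q).surjective
    ⟨(u : (ι → F) ≃ₗ[F] (ι → F)), fun v => u.2.2 v⟩
  have h := congrArg Subtype.val hg
  exact ⟨g, Subtype.ext h⟩

/-- The map from `Ω`. -/
noncomputable def omegaHom (W : Witt Q m) : ↥(Cfsg.Omega F ⇑Q) →* (orthGeo W).isom :=
  (orthHom W).comp (Cfsg.Omega F ⇑Q).subtype

theorem omegaHom_injective (W : Witt Q m) : Function.Injective (omegaHom W) :=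
  (orthHom_injective W).comp Subtype.val_injective

/-- It is enough that the unipotent elements lie in `Ω`. -/
theorem unip_le_range (W : Witt Q m)
    (h : ∀ (C : (orthGeo W).Flag) (g : ↥(Cfsg.isometryGroup F ⇑Q)),
      orthHom W g ∈ C.unip → g ∈ Cfsg.Omega F ⇑Q) (C : (orthGeo W).Flag) :
    C.unip ≤ (omegaHom W).range := fun u hu => by
  obtain ⟨g, rfl⟩ := orthHom_surjective W u
  exact ⟨⟨g, h C g hu⟩, rfl⟩

variable (p : ℕ) [Fact p.Prime] [CharP F p]

theorem pow_eq_one_of_unip [Finite F] (W : Witt Q m) (C : (orthGeo W).Flag)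
    (g : ↥(Cfsg.isometryGroup F ⇑Q)) (hg : orthHom W g ∈ C.unip) : ∃ k, g ^ p ^ k = 1 := by
  obtain ⟨k, hk⟩ := C.isPGroup_unip p ⟨_, hg⟩
  exact ⟨k, orthHom_injective W (by rw [map_pow, map_one]; exact congrArg Subtype.val hk)⟩

/-- In odd characteristic `Ω` contains every element of `p`-power order. -/
theorem mem_omega_of_pow [Fintype F] (hp : p ≠ 2) (hQ : (polarBilin Q).Nondegenerate)
    (hn : 2 ≤ Fintype.card ι) (g : ↥(Cfsg.isometryGroup F ⇑Q)) (hg : ∃ k, g ^ p ^ k = 1) :
    g ∈ Cfsg.Omega F ⇑Q := by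
  have h2 : (2 : F) ≠ 0 := fun h => hp (by
    have := CharP.cast_eq_zero_iff F p 2
    exact (Nat.prime_dvd_prime_iff_eq Fact.out Nat.prime_two).1 (this.1 (by exact_mod_cast h)))
  have h4 := Subgroup.pow_index_mem (Cfsg.Omega F ⇑Q) g
  rw [Forms.index_omega_odd h2 hQ hn] at h4
  obtain ⟨k, hk⟩ := hg
  have hc : Nat.Coprime 4 (p ^ k) := Nat.Coprime.pow_right k
    ((((Fact.out : p.Prime).coprime_iff_not_dvd).2 fun h => hp
      ((Nat.prime_dvd_prime_iff_eq Fact.out Nat.prime_two).1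
        ((Fact.out : p.Prime).dvd_of_dvd_pow (show p ∣ 2 ^ 2 from h)))).symm)
  have hb := Nat.gcd_eq_gcd_ab 4 (p ^ k)
  rw [hc.gcd_eq_one] at hb
  have hk' : (g : ↥(Cfsg.isometryGroup F ⇑Q)) ^ ((p ^ k : ℕ) : ℤ) = 1 := by rw [zpow_natCast, hk]
  rw [show g = g ^ ((1 : ℕ) : ℤ) by simp, hb, zpow_add, zpow_mul, zpow_mul, hk', one_zpow, mul_one,
    zpow_natCast]
  exact Subgroup.zpow_mem _ h4 _

omit p in
/-- In characteristic two `Ω` is the kernel of the Dickson invariant. -/
theorem mem_omega_iff_parity [Finite F] [CharP F 2] (hQ : (polarBilin Q).Nondegenerate)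
    (hG : Dickson.ReflGen Q) (hn : 0 < Fintype.card ι) (g : ↥(Cfsg.isometryGroup F ⇑Q)) :
    g ∈ Cfsg.Omega F ⇑Q ↔ Dickson.parity (Dickson.toOrth Q g) = 0 := by
  have hmap : (commutator ↥(Cfsg.isometryGroup F ⇑Q)).map (Dickson.toOrth Q).toMonoidHom =
      commutator (Dickson.orth Q) := by
    rw [commutator_def, commutator_def, Subgroup.map_commutator,
      Subgroup.map_top_of_surjective _ (Dickson.toOrth Q).surjective]
  have h1 : g ∈ Cfsg.Omega F ⇑Q ↔ Dickson.toOrth Q g ∈ commutator (Dickson.orth Q) := by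
    rw [← hmap]
    exact ⟨fun h => Subgroup.mem_map_of_mem _ h,
      fun ⟨a, ha, hag⟩ => (Dickson.toOrth Q).injective hag ▸ ha⟩
  rw [h1, Dickson.mem_commutator_iff' hQ hG (by rwa [Module.finrank_fintype_fun_eq_card])]

/-- The conclusion for `PΩ`. -/
theorem exists_steinberg_POmega [Finite F] (W : Witt Q m) (A : Geo.Ample p (omegaHom W)) :
    ∃ χ : Cfsg.POmega F ⇑Q → ℂ, Cfsg.IsIrrCharacter (Cfsg.POmega F ⇑Q) χ ∧
      ∀ P : Sylow p (Cfsg.POmega F ⇑Q), χ 1 = Nat.card P ∧
        ∀ x : Cfsg.POmega F ⇑Q, x ∈ P → x ≠ 1 → χ x = 0 :=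
  Geo.exists_steinberg A

end CfsgLib.ChamberSt
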