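import Cfsg.Agent.Forms.OrthIndex
import Cfsg.Agent.Characters.Linear

/-!
# Groups of order prime to `p`, and the small cases
-/

set_option autoImplicit false
set_option linter.unusedSectionVars false
set_option linter.style.haveILetI false

namespace CfsgLib.ChamberSt

open QuadraticMap

/-- With a trivial Sylow `p`-subgroup the trivial character will do. -/
theorem exists_steinberg_of_not_dvd {p : ℕ} [Fact p.Prime] {G : Type*} [Group G] [Finite G]
    (h : ¬ p ∣ Nat.card G) :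
    ∃ χ : G → ℂ, Cfsg.IsIrrCharacter G χ ∧
      ∀ P : Sylow p G, χ 1 = Nat.card P ∧ ∀ x : G, x ∈ P → x ≠ 1 → χ x = 0 := by
  refine ⟨fun _ => 1, CfsgLib.Characters.isIrr_one, fun P => ?_⟩
  have hP : Nat.card P = 1 := by
    rw [P.card_eq_multiplicity, Nat.factorization_eq_zero_of_not_dvd h, pow_zero]
  haveI : Subsingleton P := (Nat.card_eq_one_iff_unique.1 hP).1
  refine ⟨by rw [hP, Nat.cast_one], fun x hx hx1 => absurd ?_ hx1⟩
  exact congrArg Subtype.val (Subsingleton.elim (⟨x, hx⟩ : P) 1)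

variable {F : Type*} [Field F] [Fintype F] (p : ℕ) [Fact p.Prime] [CharP F p]

/-- A plane: `PΩ` has order prime to `p`. -/
theorem exists_steinberg_plane {ι : Type} [Fintype ι] [DecidableEq ι] (Q : QuadraticForm F (ι → F))
    (hQ : (polarBilin Q).Nondegenerate) (hn : Fintype.card ι = 2)
    (hO : Nat.card ↥(Cfsg.isometryGroup F ⇑Q) = 2 * (Fintype.card F - 1) ∨
      Nat.card ↥(Cfsg.isometryGroup F ⇑Q) = 2 * (Fintype.card F + 1)) :
    ∃ χ : Cfsg.POmega F ⇑Q → ℂ, Cfsg.IsIrrCharacter (Cfsg.POmega F ⇑Q) χ ∧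
      ∀ P : Sylow p (Cfsg.POmega F ⇑Q), χ 1 = Nat.card P ∧
        ∀ x : Cfsg.POmega F ⇑Q, x ∈ P → x ≠ 1 → χ x = 0 := by
  refine exists_steinberg_of_not_dvd fun hdvd => ?_
  obtain ⟨k, hp, hk⟩ := FiniteField.card F p
  have hdΩ : p ∣ Nat.card ↥(Cfsg.Omega F ⇑Q) :=
    hdvd.trans (Subgroup.card_quotient_dvd_card _)
  have hpq : p ∣ Fintype.card F := hk ▸ dvd_pow_self p k.pos.ne'
  have hq : 1 < Fintype.card F := Fintype.one_lt_card
  have hnot : ¬ p ∣ Fintype.card F - 1 ∧ ¬ p ∣ Fintype.card F + 1 := by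
    refine ⟨fun h => hp.not_dvd_one ?_, fun h => hp.not_dvd_one ?_⟩
    · have := Nat.dvd_sub hpq h
      rwa [Nat.sub_sub_self hq.le] at this
    · exact (Nat.dvd_add_right hpq).1 h
  by_cases h2 : p = 2
  · subst h2
    have hi := CfsgLib.Forms.index_omega_charTwo hQ (by omega) (Or.inr (by omega))
    have hm := (Cfsg.Omega F ⇑Q).index_mul_card
    rw [hi] at hm
    rcases hO with h | h <;> rw [h] at hm
    · exact hnot.1 ((Nat.eq_of_mul_eq_mul_left two_pos hm) ▸ hdΩ)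
    · exact hnot.2 ((Nat.eq_of_mul_eq_mul_left two_pos hm) ▸ hdΩ)
  · have hd := hdΩ.trans (Subgroup.card_subgroup_dvd_card _)
    have hp2 : ¬ p ∣ 2 := fun h => h2 ((Nat.prime_dvd_prime_iff_eq hp Nat.prime_two).1 h)
    rcases hO with h | h <;> rw [h] at hd
    · exact hnot.1 ((hp.dvd_mul.1 hd).resolve_left hp2)
    · exact hnot.2 ((hp.dvd_mul.1 hd).resolve_left hp2)

end CfsgLib.ChamberSt
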