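import Cfsg.Agent.ChamberSt.OrthOdd
import Cfsg.Agent.ChamberSt.Trivial
import Cfsg.Agent.Forms4.OrthogonalOrders

/-!
# The Steinberg character of `PΩ⁻`
-/

set_option autoImplicit false
set_option linter.unusedSectionVars false
set_option linter.style.haveILetI false

namespace CfsgLib.ChamberSt

open Module QuadraticMap

variable {F : Type*} [Field F] [Finite F] {ι : Type} [Fintype ι] [DecidableEq ι]
variable {Q : QuadraticForm F (ι → F)} {m : ℕ} (W : Witt Q m)

/-- The vectors of `pp (x m)` moved only within `x m`. -/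
noncomputable def fixPart (C : (orthGeo W).Flag) (g : (orthGeo W).isom) : Submodule F (ι → F) :=
  (orthGeo W).pp (C.x m) ⊓
    (C.x m).comap (((g : (ι → F) ≃ₗ[F] (ι → F)) : (ι → F) →ₗ[F] (ι → F)) - LinearMap.id)

theorem mem_fixPart {C : (orthGeo W).Flag} {g : (orthGeo W).isom} {v : ι → F} :
    v ∈ fixPart W C g ↔ v ∈ (orthGeo W).pp (C.x m) ∧ (g : (ι → F) ≃ₗ[F] (ι → F)) v - v ∈ C.x m := Iff.rfl

theorem parity_fixPart [CharP F 2] (hn : Fintype.card ι = 2 * m + 2) (hm : 1 ≤ m)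
    (C : (orthGeo W).Flag) (g : ↥(Cfsg.isometryGroup F ⇑Q)) (hC : orthHom W g • C = C) :
    (finrank F (fixPart W C (orthHom W g)) : ZMod 2) = m + Dickson.parity (Dickson.toOrth Q g) := by
  set U := C.x m with hU
  set P := (orthGeo W).pp U with hP
  have hUP : U ≤ P := C.ti.le_pp (orthGeo W)
  obtain ⟨c, hc⟩ := Submodule.exists_isCompl U
  set W0 := c ⊓ P with hW0
  have hsup : U ⊔ W0 = P := by
    rw [hW0, ← sup_inf_assoc_of_le c hUP, hc.sup_eq_top, top_inf_eq]
  have hinf : U ⊓ W0 = ⊥ := by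
    rw [eq_bot_iff, ← hc.inf_eq_bot]
    exact inf_le_inf_left _ inf_le_left
  have hnV : finrank F (ι → F) = 2 * m + 2 := by rw [Module.finrank_fintype_fun_eq_card, hn]
  have hUd : finrank F U = m := C.dim m le_rfl
  have hPd : finrank F P = m + 2 := by
    have := (orthGeo W).finrank_pp_add U
    rw [← hP] at this
    omega
  have hW0d : finrank F W0 = 2 := by
    have := Submodule.finrank_sup_add_finrank_inf_eq U W0
    rw [hsup, hinf, finrank_bot, hUd, hPd] at this
    omega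
  let Q₀ : QuadraticForm F W0 := Q.comp W0.subtype
  let Q' : QuadraticForm F ((ι → F) × W0) := Q.prod Q₀
  have hQ'app : ∀ v w, Q' (v, w) = Q v + Q (w : ι → F) := fun v w => rfl
  have hpol : ∀ v w v' w', polar Q' (v, w) (v', w') = polar Q v v' + polar Q (w : ι → F) w' := by
    intro v w v' w'
    simp only [polar, Prod.mk_add_mk, hQ'app, Submodule.coe_add]
    ring
  have hsep : ∀ a, (∀ b, polar Q' a b = 0) → a = 0 := by
    rintro ⟨v, w⟩ h
    have hv : v = 0 := W.nd.1 v fun v' => by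
      have := h (v', 0)
      rw [hpol] at this
      simpa using this
    have hw : (w : ι → F) ∈ U := by
      rw [← (orthGeo W).pp_pp U, ← hP, ← hsup]
      intro u hu
      obtain ⟨x, hx, y, hy, rfl⟩ := Submodule.mem_sup.1 hu
      show polar Q (x + y) w = 0
      have h1 : polar Q x (w : ι → F) = 0 := (w.2.2 : (w : ι → F) ∈ (orthGeo W).pp U) x hx
      have h2 := h (0, ⟨y, hy⟩)
      rw [hpol, hv] at h2
      rw [polar_add_left, h1, polar_comm, zero_add]
      simpa using h2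
    have hw0 : w = 0 := Subtype.ext ((Submodule.mem_bot F).1 (hinf ▸ ⟨hw, w.2⟩))
    rw [hv, hw0]; rfl
  have hQ'nd : (polarBilin Q').Nondegenerate := CfsgLib.StdForms.nondegenerate_of_sep Q' hsep
  let g₀ := Dickson.toOrth Q g
  let g' : Dickson.orth Q' := ⟨(g₀ : (ι → F) ≃ₗ[F] (ι → F)).prodCongr (LinearEquiv.refl F W0), fun a => by
    rcases a with ⟨v, w⟩
    show Q' ((g₀ : (ι → F) ≃ₗ[F] (ι → F)) v, w) = Q' (v, w)
    rw [hQ'app, hQ'app, g₀.2]⟩
  have hpar : Dickson.parity g' = Dickson.parity g₀ := by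
    unfold Dickson.parity
    congr 1
    have hd : Dickson.disp g' =
        (LinearMap.inl F (ι → F) W0) ∘ₗ (Dickson.disp g₀) ∘ₗ LinearMap.fst F (ι → F) W0 := by
      refine LinearMap.ext fun a => Prod.ext rfl ?_
      show a.2 + a.2 = 0
      ext i
      simp [CharTwo.add_self_eq_zero]
    rw [hd, LinearMap.range_comp, LinearMap.range_comp_of_range_eq_top _
      (LinearMap.range_eq_top.2 LinearMap.fst_surjective)]
    exact ((Dickson.disp g₀).range.equivMapOfInjective _ LinearMap.inl_injective).finrank_eq.symm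
  let L : (U × W0) →ₗ[F] ((ι → F) × W0) :=
    LinearMap.prod (U.subtype ∘ₗ LinearMap.fst F U W0 + W0.subtype ∘ₗ LinearMap.snd F U W0)
      (LinearMap.snd F U W0)
  have hLapp : ∀ x w, L (x, w) = ((x : ι → F) + (w : ι → F), w) := fun _ _ => rfl
  have hLinj : Function.Injective L := by
    rintro ⟨x, w⟩ ⟨x', w'⟩ h
    rw [hLapp, hLapp] at h
    obtain ⟨h1, rfl⟩ := Prod.ext_iff.1 h
    exact Prod.ext (Subtype.ext (add_right_cancel h1)) rfl
  set X := LinearMap.range L with hX
  have hlag : Dickson.IsLag Q' (m + 2) X := by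
    refine ⟨by rw [hX, LinearMap.finrank_range_of_inj hLinj, Module.finrank_prod, hUd, hW0d], ?_⟩
    rintro _ ⟨⟨x, w⟩, rfl⟩
    have h1 : polar Q (x : ι → F) w = 0 := (w.2.2 : (w : ι → F) ∈ (orthGeo W).pp U) x x.2
    rw [hLapp, hQ'app, QuadraticMap.map_add (⇑Q), show Q (x : ι → F) = 0 from (C.ti x x.2).1, h1,
      zero_add, add_zero, CharTwo.add_self_eq_zero]
  have hmain := Dickson.finrank_inf_map_lag' hQ'nd
    (Or.inl (by rw [Module.finrank_prod, hnV, hW0d]; omega)) (m := m + 2)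
    (by rw [Module.finrank_prod, hnV, hW0d]; omega) hlag g'
  set X' := X.map ((((g' : Dickson.orth Q') : ((ι → F) × W0) ≃ₗ[F] ((ι → F) × W0))) :
    ((ι → F) × W0) →ₗ[F] ((ι → F) × W0)) with hX'
  have hgU : ∀ x ∈ U, (orthHom W g : (ι → F) ≃ₗ[F] (ι → F)) x ∈ U := fun x hx => by
    have := Geo.Flag.mem_smul (orthHom W g) (C := C) hx
    rwa [hC] at this
  have hmap : (X ⊓ X').map (LinearMap.fst F (ι → F) W0) = fixPart W C (orthHom W g) := by
    refine le_antisymm ?_ ?_
    · rintro _ ⟨a, ⟨⟨⟨x, w⟩, rfl⟩, ⟨b, ⟨⟨x', w'⟩, rfl⟩, hb⟩⟩, rfl⟩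
      have hb1 := congrArg Prod.fst hb
      have hb2 : w' = w := congrArg Prod.snd hb
      subst hb2
      rw [mem_fixPart]
      show (x : ι → F) + w' ∈ P ∧ (g₀ : (ι → F) ≃ₗ[F] (ι → F)) ((x : ι → F) + w') - ((x : ι → F) + w') ∈ U
      refine ⟨add_mem (hUP x.2) w'.2.2, ?_⟩
      have hb1' : (g₀ : (ι → F) ≃ₗ[F] (ι → F)) ((x' : ι → F) + w') = (x : ι → F) + w' := hb1
      have e : (g₀ : (ι → F) ≃ₗ[F] (ι → F)) ((x : ι → F) + w') - ((x : ι → F) + w') =
          (g₀ : (ι → F) ≃ₗ[F] (ι → F)) (x : ι → F) - (g₀ : (ι → F) ≃ₗ[F] (ι → F)) (x' : ι → F) := by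
        conv_lhs => arg 2; rw [← hb1']
        rw [map_add, map_add]; abel
      rw [e]
      exact sub_mem (hgU _ x.2) (hgU _ x'.2)
    · intro v hv
      rw [mem_fixPart] at hv
      obtain ⟨hvP, hvg⟩ := hv
      change v ∈ P at hvP
      rw [← hsup] at hvP
      obtain ⟨x, hx, w, hw, rfl⟩ := Submodule.mem_sup.1 hvP
      refine ⟨(x + w, ⟨w, hw⟩), ⟨⟨(⟨x, hx⟩, ⟨w, hw⟩), hLapp _ _⟩, ?_⟩, rfl⟩
      have hz : (g₀ : (ι → F) ≃ₗ[F] (ι → F)).symm ((x + w) - (g₀ : (ι → F) ≃ₗ[F] (ι → F)) w) ∈ U := by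
        have h1 : (x + w) - (g₀ : (ι → F) ≃ₗ[F] (ι → F)) w ∈ U := by
          have h2 := sub_mem (hgU x hx) hvg
          have e : (g₀ : (ι → F) ≃ₗ[F] (ι → F)) x -
              ((g₀ : (ι → F) ≃ₗ[F] (ι → F)) (x + w) - (x + w)) =
              (x + w) - (g₀ : (ι → F) ≃ₗ[F] (ι → F)) w := by rw [map_add]; abel
          rw [← e]; exact h2
        have hfix : U.map ((g₀ : (ι → F) ≃ₗ[F] (ι → F)) : (ι → F) →ₗ[F] (ι → F)) = U :=
          congrArg (fun D => Geo.Flag.x D m) hC
        conv at h1 => arg 1; rw [← hfix]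
        obtain ⟨z, hz, hze⟩ := h1
        rw [← hze]
        simpa using hz
      refine ⟨L (⟨_, hz⟩, ⟨w, hw⟩), ⟨_, rfl⟩, ?_⟩
      rw [hLapp]
      refine Prod.ext ?_ rfl
      show (g₀ : (ι → F) ≃ₗ[F] (ι → F)) (_ + w) = x + w
      rw [map_add, LinearEquiv.apply_symm_apply, sub_add_cancel]
  have hinj : ∀ a ∈ X ⊓ X', LinearMap.fst F (ι → F) W0 a = 0 → a = 0 := by
    rintro _ ⟨⟨⟨x, w⟩, rfl⟩, -⟩ h
    have h' : (x : ι → F) + w = 0 := h
    have hw : (w : ι → F) ∈ U := by
      rw [show (w : ι → F) = -(x : ι → F) from (neg_eq_of_add_eq_zero_right h').symm]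
      exact U.neg_mem x.2
    have hw0 : w = 0 := Subtype.ext ((Submodule.mem_bot F).1 (hinf ▸ ⟨hw, w.2⟩))
    rw [hLapp, h', hw0]; rfl
  have hcard : finrank F (fixPart W C (orthHom W g)) = finrank F ↥(X ⊓ X') := by
    rw [← hmap]
    let f : ↥(X ⊓ X') →ₗ[F] (ι → F) := (LinearMap.fst F (ι → F) W0).domRestrict _
    have hf : Function.Injective f := LinearMap.ker_eq_bot.1 <| LinearMap.ker_eq_bot'.2 fun a ha =>
      Subtype.ext (hinj _ a.2 ha)
    rw [← LinearMap.finrank_range_of_inj hf, LinearMap.range_domRestrict]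
  rw [hcard, hmain, hpar, Nat.cast_add, show ((2 : ℕ) : ZMod 2) = 0 from rfl, add_zero]

variable (p : ℕ) [Fact p.Prime] [CharP F p]
include W

theorem exists_fixed_outside (hn : Fintype.card ι = 2 * m + 2) (C : (orthGeo W).Flag)
    (g : (orthGeo W).isom) (hg : ∃ k, g ^ p ^ k = 1) (hC : g • C = C) :
    ∃ v ∈ (orthGeo W).pp (C.x m), v ∉ C.x m ∧ (g : (ι → F) ≃ₗ[F] (ι → F)) v - v ∈ C.x m := by
  by_contra hno
  obtain ⟨k, hk⟩ := hg
  set G : Module.End F (ι → F) := ((g : (ι → F) ≃ₗ[F] (ι → F)) : (ι → F) →ₗ[F] (ι → F)) with hG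
  haveI : Nontrivial (ι → F) := Module.nontrivial_of_finrank_pos (R := F)
    (by rw [Module.finrank_fintype_fun_eq_card, hn]; omega)
  have : CharP (Module.End F (ι → F)) p :=
    charP_of_injective_algebraMap (algebraMap F (Module.End F (ι → F))).injective p
  obtain ⟨v₀, hv₀, hv₀'⟩ : ∃ v ∈ (orthGeo W).pp (C.x m), v ∉ C.x m := by
    by_contra h
    have h1 := Submodule.finrank_mono (fun v hv => not_not.1 fun hh => h ⟨v, hv, hh⟩ :
      (orthGeo W).pp (C.x m) ≤ C.x m)
    have h2 := (orthGeo W).finrank_pp_add (C.x m)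
    rw [show finrank F (C.x m) = m from C.dim m le_rfl, Module.finrank_fintype_fun_eq_card, hn] at h2
    rw [show finrank F (C.x m) = m from C.dim m le_rfl] at h1
    omega
  have hiter : ∀ j : ℕ, ((G - 1) ^ j) v₀ ∈ (orthGeo W).pp (C.x m) ∧ ((G - 1) ^ j) v₀ ∉ C.x m := by
    intro j
    induction j with
    | zero => exact ⟨hv₀, hv₀'⟩
    | succ j ih =>
      rw [pow_succ', Module.End.mul_apply]
      refine ⟨sub_mem (Geo.apply_mem_pp hC ih.1) ih.1, fun h => hno ⟨_, ih.1, ih.2, h⟩⟩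
  have hpow : ∀ n, (((g ^ n : (orthGeo W).isom) : (ι → F) ≃ₗ[F] (ι → F)) : (ι → F) →ₗ[F] (ι → F)) =
      G ^ n := by
    intro n
    induction n with
    | zero => rfl
    | succ n ih => rw [pow_succ, pow_succ, ← ih]; rfl
  have h0 : (G - 1) ^ p ^ k = 0 := by
    rw [sub_pow_char_pow_of_commute p k (Commute.one_right G), one_pow, ← hpow, hk, sub_eq_zero]
    rfl
  have := (hiter (p ^ k)).2
  rw [h0] at this
  exact this (C.x m).zero_mem

/-- Odd characteristic: the anisotropic plane admits no element of order `p`. -/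
theorem mid_minus_odd (hp : p ≠ 2) (hn : Fintype.card ι = 2 * m + 2) (g : (orthGeo W).isom)
    (hg : ∃ k, g ^ p ^ k = 1) (C : (orthGeo W).Flag) (hC : g • C = C) :
    ∀ w ∈ (orthGeo W).pp (C.x m), (g : (ι → F) ≃ₗ[F] (ι → F)) w - w ∈ C.x m := by
  obtain ⟨v, hv, hvU, hgv⟩ := exists_fixed_outside W p hn C g hg hC
  have hq : Q v ≠ 0 := fun h => hvU ((orthGeo W).mem_of_singular C.ti (C.dim m le_rfl) h hv)
  have h2 : (2 : F) ≠ 0 := fun h => hp ((Nat.prime_dvd_prime_iff_eq Fact.out Nat.prime_two).1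
    ((CharP.cast_eq_zero_iff F p 2).1 (by exact_mod_cast h)))
  have hvv : (orthGeo W).B v v ≠ 0 := by
    show polar Q v v ≠ 0
    rw [polar_self, nsmul_eq_mul]
    exact mul_ne_zero (by exact_mod_cast h2) hq
  set Y := (orthGeo W).pp (C.x m ⊔ Submodule.span F {v}) with hY
  have hUY : C.x m ≤ Y := by
    intro x hx u hu
    obtain ⟨a, ha, b, hb, rfl⟩ := Submodule.mem_sup.1 hu
    obtain ⟨c, rfl⟩ := Submodule.mem_span_singleton.1 hb
    have h1 : (orthGeo W).B a x = 0 := (C.ti a ha).2 x hx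
    have h2 : (orthGeo W).B v x = 0 := (orthGeo W).refl _ _ (hv x hx)
    simp [h1, h2]
  have hYd : finrank F Y ≤ finrank F (C.x m) + 1 := by
    have h1 := (orthGeo W).finrank_pp_add (C.x m ⊔ Submodule.span F {v})
    have h2 : finrank F (C.x m) < finrank F ↥(C.x m ⊔ Submodule.span F {v}) :=
      Submodule.finrank_lt_finrank_of_lt (lt_of_le_of_ne le_sup_left fun e =>
        hvU (by rw [e]; exact Submodule.mem_sup_right (Submodule.mem_span_singleton_self v)))
    rw [← hY, Module.finrank_fintype_fun_eq_card, hn] at h1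
    rw [show finrank F (C.x m) = m from C.dim m le_rfl] at h2 ⊢
    omega
  have hgY : ∀ u ∈ Y, (g : (ι → F) ≃ₗ[F] (ι → F)) u ∈ Y := by
    intro u hu z hz
    have huU : u ∈ (orthGeo W).pp (C.x m) := (orthGeo W).pp_anti le_sup_left hu
    have hgu : (g : (ι → F) ≃ₗ[F] (ι → F)) u ∈ (orthGeo W).pp (C.x m) := Geo.apply_mem_pp hC huU
    obtain ⟨a, ha, b, hb, rfl⟩ := Submodule.mem_sup.1 hz
    obtain ⟨c, rfl⟩ := Submodule.mem_span_singleton.1 hb
    have h1 : (orthGeo W).B v ((g : (ι → F) ≃ₗ[F] (ι → F)) u) = 0 := by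
      have e1 := hgu _ hgv
      rw [map_sub, LinearMap.sub_apply, g.2.1,
        hu v (Submodule.mem_sup_right (Submodule.mem_span_singleton_self v)), zero_sub, neg_eq_zero] at e1
      exact e1
    simp [hgu a ha, h1]
  obtain ⟨k, hk⟩ := hg
  intro w hw
  set c := (orthGeo W).B v w / (orthGeo W).B v v with hc
  have hwY : w - c • v ∈ Y := by
    intro z hz
    obtain ⟨a, ha, b, hb, rfl⟩ := Submodule.mem_sup.1 hz
    obtain ⟨d, rfl⟩ := Submodule.mem_span_singleton.1 hb
    simp [hw a ha, hv a ha, hc, div_mul_cancel₀ _ hvv]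
  have hkey := sub_mem_of_pow p hUY hYd (g : (ι → F) ≃ₗ[F] (ι → F)) (fun x hx => by
      have h := Geo.Flag.mem_smul g (C := C) hx
      rwa [hC] at h) hgY (k := k)
    (by simpa using congrArg (fun x : (orthGeo W).isom => (x : (ι → F) ≃ₗ[F] (ι → F))) hk) hwY
  have := add_mem hkey ((C.x m).smul_mem c hgv)
  rw [map_sub, map_smul, smul_sub] at this
  convert this using 1
  abel

omit W
omit p

variable [Fintype F]

theorem minus_witt (m : ℕ) {a b : F}
    (hab : ∀ z₁ z₂ : F, z₁ ^ 2 + a * z₁ * z₂ + b * z₂ ^ 2 = 0 → z₁ = 0 ∧ z₂ = 0) :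
    Witt (CfsgLib.StdForms.minusQ m F a b) m where
  nd := CfsgLib.StdForms.minusQ_nondegenerate m (by
    by_cases h2 : (2 : F) = 0
    · haveI : CharP F 2 := CharTwo.of_one_ne_zero_of_two_eq_zero one_ne_zero h2
      intro h
      exact Dickson.minus_coeff_ne_zero hab (eq_zero_of_pow_eq_zero (n := 2)
        (by linear_combination h + 2 * b * h2))
    · exact CfsgLib.StdForms.disc_ne_zero_of_anisotropic h2 hab)
  max' X hX := Dickson.minus_no_lag m hab X fun v hv => by
    rw [Dickson.minusForm_coe, ← CfsgLib.StdForms.coe_minusQ]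
    exact (hX v hv).1
  full' := exists_span_singular _ (fun i => Sum.inl (Sum.inl i))
    (Sum.inl_injective.comp Sum.inl_injective) fun v hv => by
    rw [CfsgLib.StdForms.minusQ_apply, Cfsg.quadFormMinus, hv (Sum.inr 0) (fun j => by simp),
      hv (Sum.inr 1) (fun j => by simp)]
    simp [fun i => hv (Sum.inl (Sum.inr i)) (fun j => by simp)]

theorem exists_steinberg_minus (p : ℕ) [Fact p.Prime] [CharP F p] (m : ℕ) {a b : F}
    (hab : ∀ z₁ z₂ : F, z₁ ^ 2 + a * z₁ * z₂ + b * z₂ ^ 2 = 0 → z₁ = 0 ∧ z₂ = 0) :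
    ∃ χ : Cfsg.POmega F (Cfsg.quadFormMinus m F a b) → ℂ,
      Cfsg.IsIrrCharacter (Cfsg.POmega F (Cfsg.quadFormMinus m F a b)) χ ∧
      ∀ P : Sylow p (Cfsg.POmega F (Cfsg.quadFormMinus m F a b)), χ 1 = Nat.card P ∧
        ∀ x : Cfsg.POmega F (Cfsg.quadFormMinus m F a b), x ∈ P → x ≠ 1 → χ x = 0 := by
  rw [← CfsgLib.StdForms.coe_minusQ]
  set W := minus_witt m hab
  rcases Nat.eq_zero_or_pos m with rfl | hm
  · refine exists_steinberg_plane p _ W.nd (by simp) (Or.inr ?_)
    rw [CfsgLib.StdForms.coe_minusQ]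
    have h := CfsgLib.Forms4.card_isometryGroup_quadFormMinus (F := F) rfl 1 le_rfl a b hab
    simpa using h
  have hn : Fintype.card ((Fin m ⊕ Fin m) ⊕ Fin 2) = 2 * m + 2 := by simp; omega
  refine exists_steinberg_POmega p W (Geo.ample_of_thick (Or.inl ?_) (omegaHom_injective W) ?_ ?_)
  · show 2 * m < _
    rw [Module.finrank_fintype_fun_eq_card, hn]
    omega
  · refine unip_le_range W fun C g hg => ?_
    by_cases hp : p = 2
    · subst hp
      have hG : Dickson.ReflGen (CfsgLib.StdForms.minusQ m F a b) :=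
        if h : 5 ≤ Fintype.card ((Fin m ⊕ Fin m) ⊕ Fin 2) then
          Or.inl (by rwa [Module.finrank_fintype_fun_eq_card])
        else Or.inr (Or.inr fun X hX => (Dickson.minus_no_lag m hab X fun v hv => by
          rw [Dickson.minusForm_coe, ← CfsgLib.StdForms.coe_minusQ]; exact hX v hv).trans (by omega))
      rw [mem_omega_iff_parity W.nd hG (by omega)]
      obtain ⟨hC, -, hmid⟩ := C.mem_unip_iff.1 hg
      have h := parity_fixPart W hn hm C g hC
      have hfull : fixPart W C (orthHom W g) = (orthGeo W).pp (C.x m) :=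
        le_antisymm inf_le_left fun v hv => ⟨hv, hmid v hv⟩
      have hd := (orthGeo W).finrank_pp_add (C.x m)
      rw [show finrank F (C.x m) = m from C.dim m le_rfl, Module.finrank_fintype_fun_eq_card, hn] at hd
      rw [hfull, show finrank F ((orthGeo W).pp (C.x m)) = m + 2 by omega, Nat.cast_add,
        show ((2 : ℕ) : ZMod 2) = 0 from rfl, add_zero] at h
      linear_combination -h
    · exact mem_omega_of_pow p hp W.nd (by omega) g (pow_eq_one_of_unip p W C g hg)
  · intro g hg C hC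
    by_cases hp : p = 2
    · subst hp
      have hG : Dickson.ReflGen (CfsgLib.StdForms.minusQ m F a b) :=
        if h : 5 ≤ Fintype.card ((Fin m ⊕ Fin m) ⊕ Fin 2) then
          Or.inl (by rwa [Module.finrank_fintype_fun_eq_card])
        else Or.inr (Or.inr fun X hX => (Dickson.minus_no_lag m hab X fun v hv => by
          rw [Dickson.minusForm_coe, ← CfsgLib.StdForms.coe_minusQ]; exact hX v hv).trans (by omega))
      have hpar := (mem_omega_iff_parity W.nd hG (by omega) g.1).1 g.2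
      have h := parity_fixPart W hn hm C g.1 hC
      rw [hpar, add_zero] at h
      obtain ⟨v, hv, hvU, hgv⟩ := exists_fixed_outside W 2 hn C (omegaHom W g) (Geo.map_pow_one hg) hC
      set Fx := fixPart W C (orthHom W g.1) with hFx
      have hle : Fx ≤ (orthGeo W).pp (C.x m) := inf_le_left
      have hd := (orthGeo W).finrank_pp_add (C.x m)
      rw [show finrank F (C.x m) = m from C.dim m le_rfl, Module.finrank_fintype_fun_eq_card, hn] at hd
      have h1 := Submodule.finrank_mono hle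
      have hUF : C.x m ≤ Fx := fun x hx => by
        refine ⟨C.ti.le_pp (orthGeo W) hx, sub_mem ?_ hx⟩
        have h' := Geo.Flag.mem_smul (omegaHom W g) (C := C) hx
        rwa [hC] at h'
      have h2 : finrank F (C.x m) < finrank F Fx := Submodule.finrank_lt_finrank_of_lt
        (lt_of_le_of_ne hUF fun e => hvU (e ▸ (⟨hv, hgv⟩ : v ∈ Fx)))
      rw [show finrank F (C.x m) = m from C.dim m le_rfl] at h2
      have h3 : finrank F Fx ≠ m + 1 := fun e => by
        rw [e, Nat.cast_add, Nat.cast_one] at h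
        exact one_ne_zero (α := ZMod 2) (by linear_combination h)
      have hfull : Fx = (orthGeo W).pp (C.x m) :=
        Submodule.eq_of_le_of_finrank_le hle (by omega)
      intro w hw
      change w ∈ (orthGeo W).pp (C.x m) at hw
      rw [← hfull] at hw
      exact hw.2
    · exact mid_minus_odd W p hp hn _ (Geo.map_pow_one hg) C hC

end CfsgLib.ChamberSt
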