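import Cfsg.Agent.ChamberSt.Orth

/-!
# The Steinberg character of `PΩ` in odd dimension
-/

set_option autoImplicit false
set_option linter.unusedSectionVars false
set_option linter.style.haveILetI false

namespace CfsgLib.ChamberSt

open Module QuadraticMap

variable {F : Type*} [Field F] [Fintype F] (p : ℕ) [Fact p.Prime] [CharP F p]

omit p in
/-- The span of the vectors `f i`, all singular and orthogonal. -/
theorem exists_span_singular {ι : Type} [Fintype ι] [DecidableEq ι] {m : ℕ}
    (Q : (ι → F) → F) (f : Fin m → ι) (hf : Function.Injective f)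
    (h : ∀ v : ι → F, (∀ j, (∀ i, f i ≠ j) → v j = 0) → Q v = 0) :
    ∃ X : Submodule F (ι → F), (∀ u ∈ X, Q u = 0) ∧ finrank F X = m := by
  refine ⟨Submodule.span F (Set.range fun i => (Pi.single (f i) 1 : ι → F)), fun u hu => h u ?_, ?_⟩
  · intro j hj
    induction hu using Submodule.span_induction with
    | mem x hx => obtain ⟨i, rfl⟩ := hx; simp [(hj i).symm]
    | zero => simp
    | add x y _ _ hx hy => simp [hx, hy]
    | smul c x _ hx => simp [hx]
  · have hli : LinearIndependent F fun i : Fin m => (Pi.single (f i) 1 : ι → F) := by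
      simpa [Function.comp_def, Pi.basisFun_apply] using
        (Pi.basisFun F ι).linearIndependent.comp _ hf
    exact (finrank_span_eq_card hli).trans (Fintype.card_fin m)

theorem exists_steinberg_odd (hodd : Odd (Fintype.card F)) (m : ℕ) (hm : 1 ≤ m) :
    ∃ χ : Cfsg.POmega F (Cfsg.quadFormOdd m F) → ℂ,
      Cfsg.IsIrrCharacter (Cfsg.POmega F (Cfsg.quadFormOdd m F)) χ ∧
      ∀ P : Sylow p (Cfsg.POmega F (Cfsg.quadFormOdd m F)), χ 1 = Nat.card P ∧
        ∀ x : Cfsg.POmega F (Cfsg.quadFormOdd m F), x ∈ P → x ≠ 1 → χ x = 0 := by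
  have hp : p ≠ 2 := by
    rintro rfl
    obtain ⟨k, -, hk⟩ := FiniteField.card F 2
    rw [hk] at hodd
    exact Nat.not_even_iff_odd.2 hodd (Nat.even_pow.2 ⟨even_two, k.pos.ne'⟩)
  have h2 : (2 : F) ≠ 0 := fun h => hp ((Nat.prime_dvd_prime_iff_eq Fact.out Nat.prime_two).1
    ((CharP.cast_eq_zero_iff F p 2).1 (by exact_mod_cast h)))
  set Q := CfsgLib.StdForms.oddQ m F with hQdef
  have hn : Fintype.card (Unit ⊕ (Fin m ⊕ Fin m)) = 2 * m + 1 := by simp; omega
  have W : Witt Q m :=
    { nd := CfsgLib.StdForms.oddQ_nondegenerate h2 m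
      max' := fun X hX => by
        have := two_mul_finrank_le (CfsgLib.StdForms.oddQ_nondegenerate h2 m) X fun u hu v hv => (hX u hu).2 v hv
        omega
      full' := exists_span_singular Q (fun i => Sum.inr (Sum.inl i))
        (Sum.inr_injective.comp Sum.inl_injective) fun v hv => by
          rw [CfsgLib.StdForms.oddQ_apply, Cfsg.quadFormOdd, hv _ (fun _ => Sum.inr_ne_inl)]
          simp [fun i => hv (Sum.inr (Sum.inr i)) (fun j => by simp)] }
  have hd : finrank F (Unit ⊕ (Fin m ⊕ Fin m) → F) = 2 * m + 1 := by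
    rw [Module.finrank_fintype_fun_eq_card, hn]
  rw [← CfsgLib.StdForms.coe_oddQ]
  refine exists_steinberg_POmega p W (Geo.ample_of_thick (Or.inl ?_) (omegaHom_injective W) ?_ ?_)
  · show 2 * m < _
    omega
  · exact unip_le_range W fun C g hg =>
      mem_omega_of_pow p hp W.nd (by omega) g (pow_eq_one_of_unip p W C g hg)
  · exact fun g hg C hC => Geo.mid_of_le p (le_of_eq hd) _ (Geo.map_pow_one hg) C hC

end CfsgLib.ChamberSt
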