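import Cfsg.Agent.ChamberSt.OrthOdd
import Cfsg.Agent.ChamberSt.Trivial
import Cfsg.Agent.Forms4.OrthogonalOrders

/-!
# The Steinberg character of `PΩ⁺`, except for four dimensions over two elements
-/

set_option autoImplicit false
set_option linter.unusedSectionVars false
set_option linter.style.haveILetI false

namespace CfsgLib.ChamberSt

open Module QuadraticMap

variable {F : Type*} [Field F] [Fintype F]

theorem plus_witt (m : ℕ) : Witt (CfsgLib.StdForms.plusQ m F) m where
  nd := CfsgLib.StdForms.plusQ_nondegenerate m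
  max' X hX := by
    have := two_mul_finrank_le (CfsgLib.StdForms.plusQ_nondegenerate m) X fun u hu v hv => (hX u hu).2 v hv
    simp at this
    omega
  full' := exists_span_singular _ (fun i => Sum.inl i) Sum.inl_injective fun v hv => by
    rw [CfsgLib.StdForms.plusQ_apply, Cfsg.quadFormPlus]
    simp [fun i => hv (Sum.inr i) (fun j => by simp)]

theorem isLag_flag {ι : Type} [Fintype ι] [DecidableEq ι] {Q : QuadraticForm F (ι → F)} {m : ℕ}
    (W : Witt Q m) (C : (orthGeo W).Flag) : Dickson.IsLag Q m (C.x m) :=
  ⟨C.dim m le_rfl, fun v hv => (C.ti v hv).1⟩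

/-- The Dickson invariant by the action on the flags, the form of maximal index. -/
theorem parity_eq [CharP F 2] {ι : Type} [Fintype ι] [DecidableEq ι] {Q : QuadraticForm F (ι → F)}
    {m : ℕ} (W : Witt Q m) (hn : Fintype.card ι = 2 * m) (hG : Dickson.ReflGen Q)
    (C : (orthGeo W).Flag) (g : ↥(Cfsg.isometryGroup F ⇑Q)) :
    (finrank F ↥(C.x m ⊓ (orthHom W g • C).x m) : ZMod 2) = m + Dickson.parity (Dickson.toOrth Q g) :=
  Dickson.finrank_inf_map_lag' W.nd hG (by rw [Module.finrank_fintype_fun_eq_card, hn])
    (isLag_flag W C) _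

theorem exists_steinberg_plus_two {m : ℕ} (hm : 2 ≤ m) [CharP F 2]
    (hG : Dickson.ReflGen (CfsgLib.StdForms.plusQ m F)) :
    Geo.Ample 2 (omegaHom (plus_witt (F := F) m)) := by
  have hn : Fintype.card (Fin m ⊕ Fin m) = 2 * m := by simp; omega
  have W := plus_witt (F := F) m
  refine ⟨omegaHom_injective _, unip_le_range _ fun C g hg => ?_, fun g hg C hC => ?_,
    fun g _ C k hk ha hne => ?_, Or.inl hm⟩
  · have hfix : orthHom (plus_witt m) g • C = C := C.unip_smul hg
    have h := parity_eq (plus_witt m) hn hG C g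
    rw [hfix, inf_idem, show finrank F (C.x m) = m from C.dim m le_rfl] at h
    rw [mem_omega_iff_parity W.nd hG (by omega)]
    linear_combination -h
  · exact Geo.mid_of_le 2 (by rw [Module.finrank_fintype_fun_eq_card, hn]; exact Nat.le_succ _) _
      (Geo.map_pow_one hg) C hC
  · exfalso
    have hpar := (mem_omega_iff_parity W.nd hG (by omega) g.1).1 g.2
    have h := parity_eq (plus_witt m) hn hG C g.1
    rw [hpar, add_zero] at h
    have hkm : k + 1 = m := hk
    set D := orthHom (plus_witt m) g.1 • C with hD
    have hd : finrank F ↥(C.x m ⊓ D.x m) = k := by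
      refine le_antisymm ?_ ?_
      · have hlt : C.x m ⊓ D.x m < C.x m := by
          refine lt_of_le_of_ne inf_le_left fun e => ha.ne hne ?_
          show D.x (k + 1) = C.x (k + 1)
          rw [hkm]
          exact (Submodule.eq_of_le_of_finrank_le (inf_eq_left.1 e)
            (by rw [show finrank F (C.x m) = m from C.dim m le_rfl,
              show finrank F (D.x m) = m from D.dim m le_rfl])).symm
        have h1 := Submodule.finrank_lt_finrank_of_lt hlt
        rw [show finrank F (C.x m) = m from C.dim m le_rfl] at h1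
        omega
      · have hle : C.x k ≤ C.x m ⊓ D.x m := by
          refine le_inf (C.le (show k ≤ m by omega)) ?_
          rw [← ha k (show k ≤ m by omega) (by omega)]
          exact D.le (show k ≤ m by omega)
        have h1 := Submodule.finrank_mono hle
        rwa [C.dim k (show k ≤ m by omega)] at h1
    rw [hd, ← hkm, Nat.cast_add, Nat.cast_one] at h
    exact one_ne_zero (α := ZMod 2) (by linear_combination -h)

variable (p : ℕ) [Fact p.Prime] [CharP F p]

theorem exists_steinberg_plus (m : ℕ) (hm : 1 ≤ m) (hex : Fintype.card F ≠ 2 ∨ m ≠ 2) :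
    ∃ χ : Cfsg.POmega F (Cfsg.quadFormPlus m F) → ℂ,
      Cfsg.IsIrrCharacter (Cfsg.POmega F (Cfsg.quadFormPlus m F)) χ ∧
      ∀ P : Sylow p (Cfsg.POmega F (Cfsg.quadFormPlus m F)), χ 1 = Nat.card P ∧
        ∀ x : Cfsg.POmega F (Cfsg.quadFormPlus m F), x ∈ P → x ≠ 1 → χ x = 0 := by
  rw [← CfsgLib.StdForms.coe_plusQ]
  rcases Nat.lt_or_ge m 2 with h1 | h2
  · obtain rfl : m = 1 := by omega
    refine exists_steinberg_plane p _ (CfsgLib.StdForms.plusQ_nondegenerate 1) (by simp) (Or.inl ?_)
    rw [CfsgLib.StdForms.coe_plusQ, CfsgLib.Forms4.card_isometryGroup_quadFormPlus rfl 1 le_rfl]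
    simp
  have hn : Fintype.card (Fin m ⊕ Fin m) = 2 * m := by simp; omega
  refine exists_steinberg_POmega p (plus_witt m) ?_
  by_cases hp : p = 2
  · subst hp
    refine exists_steinberg_plus_two h2 ?_
    rcases hex with hq | hm2
    · refine Or.inr (Or.inl ?_)
      by_contra h
      push Not at h
      apply hq
      classical
      have : (Finset.univ : Finset F) = {0, 1} := by
        ext c
        simp only [Finset.mem_univ, Finset.mem_insert, Finset.mem_singleton, true_iff]
        by_cases hc : c = 0
        · exact Or.inl hc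
        · exact Or.inr (h c hc)
      rw [← Finset.card_univ, this, Finset.card_pair zero_ne_one]
    · exact Or.inl (by rw [Module.finrank_fintype_fun_eq_card]; omega)
  · refine ⟨omegaHom_injective _, unip_le_range _ fun C g hg => ?_, fun g hg C hC => ?_,
      fun g hg C k _ ha hne => Geo.no_swap_of_odd hp _ (Geo.map_pow_one hg) C k ha hne, Or.inl h2⟩
    · exact mem_omega_of_pow p hp (CfsgLib.StdForms.plusQ_nondegenerate m) (by omega) g
        (pow_eq_one_of_unip p _ C g hg)
    · exact Geo.mid_of_le p (by rw [Module.finrank_fintype_fun_eq_card, hn]; exact Nat.le_succ _) _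
        (Geo.map_pow_one hg) C hC

end CfsgLib.ChamberSt
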