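import Cfsg.Agent.S2566
import Cfsg.Agent.Forms.SmallOrth
import Cfsg.Agent.SameDegree.Basic
import Cfsg.Agent.Characters.DefectZero

/-!
# `PΩ⁺₄(2)`
-/

set_option autoImplicit false
set_option linter.unusedSectionVars false
set_option linter.style.haveILetI false

namespace CfsgLib.ChamberSt

open Cfsg.Agent.S2566
open scoped commutatorElement

local notation "S3" => Equiv.Perm (Fin 3)
local notation "O2" => Cfsg.isometryGroup (ZMod 2) (Cfsg.quadFormPlus 2 (ZMod 2))

/-- The index two subgroup. -/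
noncomputable def pairHom : S3 × S3 →* ↥O2 :=
  (MonoidHom.toHomUnits
    { toFun := pairMat, map_one' := pairMat_one, map_mul' := pairMat_mul }).codRestrict _
    fun p => mem_of_quad (pairMat_quad p)

theorem pairHom_injective : Function.Injective pairHom :=
  (injective_iff_map_eq_one pairHom).2 fun p hp =>
    pairMat_ker p (congrArg (fun g : ↥O2 => (g.1.1 : Matrix _ _ (ZMod 2))) hp)

/-- The interchange. -/
noncomputable def swapElt : ↥O2 := ⟨⟨swapMat, swapMat, swapMat_sq, swapMat_sq⟩, mem_of_quad swapMat_quad⟩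

theorem swapElt_sq : swapElt * swapElt = 1 := Subtype.ext (Units.ext swapMat_sq)

theorem pairMat_ne_swapMat : ∀ p, pairMat p ≠ swapMat := by decide +kernel

theorem swapElt_conj (a b : S3) : swapElt * pairHom (a, b) * swapElt⁻¹ = pairHom (b, a) := by
  have hinv : swapElt⁻¹ = swapElt := inv_eq_of_mul_eq_one_right swapElt_sq
  have h1 : ∀ σ, swapElt * pairHom (σ, 1) * swapElt = pairHom (1, σ) := fun σ =>
    Subtype.ext (Units.ext (swapMat_conj σ))
  have h2 : ∀ σ, swapElt * pairHom (1, σ) * swapElt = pairHom (σ, 1) := fun σ => by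
    rw [← h1]
    simp only [mul_assoc, swapElt_sq, mul_one]
    rw [← mul_assoc, swapElt_sq, one_mul]
  rw [hinv, show ((a, b) : S3 × S3) = (a, 1) * (1, b) by simp, map_mul,
    show ((b, a) : S3 × S3) = (1, a) * (b, 1) by simp, map_mul, ← h1 a, ← h2 b]
  have hss : ∀ x, swapElt * (swapElt * x) = x := fun x => by rw [← mul_assoc, swapElt_sq, one_mul]
  simp only [mul_assoc, hss]

theorem card_O2 : Nat.card ↥O2 = 72 := Cfsg.Agent.S2566.result.1

theorem index_range : pairHom.range.index = 2 := by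
  have h := Subgroup.card_mul_index pairHom.range
  rw [card_O2, ← Nat.card_congr (MonoidHom.ofInjective pairHom_injective).toEquiv, Nat.card_prod,
    Nat.card_eq_fintype_card, Fintype.card_perm, Fintype.card_fin] at h
  simp [Nat.factorial] at h
  omega

/-- The product of the two signs. -/
noncomputable def sgnProd : S3 × S3 →* ℤˣ :=
  Equiv.Perm.sign.comp (MonoidHom.fst _ _) * Equiv.Perm.sign.comp (MonoidHom.snd _ _)

theorem card_ker_sgnProd : Nat.card sgnProd.ker = 18 := by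
  have h := Subgroup.card_mul_index sgnProd.ker
  rw [Subgroup.index_ker, MonoidHom.range_eq_top.2 (fun u => by
    rcases Int.units_eq_one_or u with rfl | rfl
    · exact ⟨1, map_one _⟩
    · exact ⟨(Equiv.swap 0 1, 1), by simp [sgnProd]⟩), Subgroup.card_top] at h
  simp only [Nat.card_eq_fintype_card, Fintype.card_prod, Fintype.card_perm, Fintype.card_fin,
    Fintype.card_units_int, Nat.factorial] at h ⊢
  omega

theorem commutator_le : commutator ↥O2 ≤ sgnProd.ker.map pairHom := by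
  set H := sgnProd.ker.map pairHom with hH
  have hcard : Nat.card H = 18 := by
    rw [hH, Subgroup.card_map_of_injective pairHom_injective, card_ker_sgnProd]
  have hswap : swapElt ∉ pairHom.range := by
    rintro ⟨p, hp⟩
    exact pairMat_ne_swapMat p (congrArg (fun g : ↥O2 => (g.1.1 : Matrix _ _ (ZMod 2))) hp)
  have hnorm : H.Normal := by
    refine Subgroup.normalizer_eq_top_iff.1 (eq_top_iff.2 fun g _ => ?_)
    have hr : ∀ p, pairHom p ∈ Subgroup.normalizer (H : Set ↥O2) := fun p => by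
      refine Subgroup.mem_normalizer_iff.2 fun x => ⟨?_, ?_⟩
      · rintro ⟨y, hy, rfl⟩
        exact ⟨p * y * p⁻¹, (MonoidHom.normal_ker sgnProd).conj_mem y hy p, by simp⟩
      · rintro ⟨y, hy, he⟩
        exact ⟨p⁻¹ * y * (p⁻¹)⁻¹, (MonoidHom.normal_ker sgnProd).conj_mem y hy p⁻¹, by
          simp [he, mul_assoc]⟩
    have hs : swapElt ∈ Subgroup.normalizer (H : Set ↥O2) := by
      refine Subgroup.mem_normalizer_iff.2 fun x => ⟨?_, ?_⟩
      · rintro ⟨⟨a, b⟩, hy, rfl⟩
        refine ⟨(b, a), ?_, (swapElt_conj a b).symm⟩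
        simpa [sgnProd, mul_comm] using hy
      · rintro ⟨⟨a, b⟩, hy, he⟩
        refine ⟨(b, a), by simpa [sgnProd, mul_comm] using hy, ?_⟩
        rw [← swapElt_conj a b, he, inv_eq_of_mul_eq_one_right swapElt_sq]
        simp only [mul_assoc, swapElt_sq, mul_one]
        rw [← mul_assoc, swapElt_sq, one_mul]
    by_cases hg : g ∈ pairHom.range
    · obtain ⟨p, rfl⟩ := hg; exact hr p
    · have h2 : g * swapElt ∈ pairHom.range :=
        (Subgroup.mul_mem_iff_of_index_two index_range).2 (iff_of_false hg hswap)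
      obtain ⟨p, hp⟩ := h2
      have : g = pairHom p * swapElt := by rw [hp, mul_assoc, swapElt_sq, mul_one]
      rw [this]
      exact mul_mem (hr p) hs
  have h4 : Nat.card (↥O2 ⧸ H) = 2 ^ 2 := by
    have h := Subgroup.card_eq_card_quotient_mul_card_subgroup H
    rw [card_O2, hcard] at h
    omega
  haveI : Fact (Nat.Prime 2) := ⟨Nat.prime_two⟩
  refine (Subgroup.Normal.quotient_commutative_iff_commutator_le).1 ?_
  exact ⟨⟨fun a b => (IsPGroup.isMulCommutative_of_card_eq_prime_sq h4).is_comm.comm a b⟩⟩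

/-- The map of `Ω` onto `S₃`. -/
theorem exists_hom : ∃ π : ↥(Cfsg.Omega (ZMod 2) (Cfsg.quadFormPlus 2 (ZMod 2))) →* S3,
    Function.Surjective π ∧ Nat.card ↥(Cfsg.Omega (ZMod 2) (Cfsg.quadFormPlus 2 (ZMod 2))) ∣ 18 := by
  have hle : commutator ↥O2 ≤ pairHom.range :=
    commutator_le.trans (by rintro _ ⟨y, -, rfl⟩; exact ⟨y, rfl⟩)
  refine ⟨(MonoidHom.fst S3 S3).comp ((MonoidHom.ofInjective pairHom_injective).symm.toMonoidHom.comp
    (Subgroup.inclusion hle)), fun σ => ?_, ?_⟩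
  · have hmem : pairHom (σ, σ⁻¹) ∈ commutator ↥O2 := by
      have h := Subgroup.commutator_mem_commutator (Subgroup.mem_top (pairHom (σ, 1))) (Subgroup.mem_top swapElt)
      have he : ⁅pairHom (σ, 1), swapElt⁆ = pairHom (σ, σ⁻¹) := by
        rw [commutatorElement_def, mul_assoc, mul_assoc, ← mul_assoc swapElt, ← map_inv,
          show ((σ, 1) : S3 × S3)⁻¹ = (σ⁻¹, 1) by simp, swapElt_conj, ← map_mul]
        simp
      rwa [he] at h
    refine ⟨⟨_, hmem⟩, ?_⟩
    show ((MonoidHom.ofInjective pairHom_injective).symm ⟨pairHom (σ, σ⁻¹), hle hmem⟩).1 = σ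
    rw [(MulEquiv.symm_apply_eq _).2 (Subtype.ext rfl :
      (⟨pairHom (σ, σ⁻¹), hle hmem⟩ : pairHom.range) = MonoidHom.ofInjective pairHom_injective (σ, σ⁻¹))]
  · refine (Subgroup.card_dvd_of_le commutator_le).trans ?_
    rw [Subgroup.card_map_of_injective pairHom_injective, card_ker_sgnProd]

theorem center_S3 : ∀ z : S3, (∀ x, x * z = z * x) → z = 1 := by decide +kernel

theorem exists_char_S3 : ∃ χ : S3 → ℂ, Cfsg.IsIrrCharacter S3 χ ∧ χ 1 = 2 := by
  classical
  obtain ⟨χ, hχ⟩ := CfsgLib.SameDegree.exists_nonlinear (G := S3) fun h => by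
    have hm : ⁅(Equiv.swap (0 : Fin 3) 1), Equiv.swap (1 : Fin 3) 2⁆ ∈ commutator S3 :=
      Subgroup.commutator_mem_commutator (Subgroup.mem_top _) (Subgroup.mem_top _)
    rw [h, Subgroup.mem_bot] at hm
    revert hm
    decide +kernel
  refine ⟨χ.1, χ.2, ?_⟩
  have hcomm : ∀ a b : S3, Equiv.Perm.sign a = 1 → Equiv.Perm.sign b = 1 → a * b = b * a := by
    decide +kernel
  obtain ⟨d, hd, hle⟩ := CfsgLib.SameDegree.degree_le_index (alternatingGroup (Fin 3))
    (fun a ha b hb => hcomm a b ha hb) χ.2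
  rw [alternatingGroup.index_eq_two] at hle
  obtain ⟨n, ρ, hρ, hρχ⟩ := χ.2
  have hn : χ.1 1 = (n : ℂ) := by
    rw [← hρχ, Representation.char_one, Module.finrank_fin_fun]
  haveI := hρ
  haveI := CfsgLib.Characters.nontrivial_of_isIrreducible ρ
  have hn0 : n ≠ 0 := by
    rintro rfl
    exact not_subsingleton (Fin 0 → ℂ) inferInstance
  rw [hn] at hd hχ
  have hnd : n = d := by exact_mod_cast hd
  have hn1 : n ≠ 1 := fun e => hχ (by rw [e, Nat.cast_one])
  rw [hn, show n = 2 by omega, Nat.cast_ofNat]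

theorem factorization_two {N : ℕ} (hN : N ≠ 0) (h2 : 2 ∣ N) (h4 : ¬ 2 ^ (1 + 1) ∣ N) :
    N.factorization 2 = 1 := by
  have h1 := (Nat.Prime.pow_dvd_iff_le_factorization Nat.prime_two hN (k := 1)).1 (by simpa using h2)
  have h3 : ¬ 1 + 1 ≤ N.factorization 2 := fun h =>
    h4 ((Nat.Prime.pow_dvd_iff_le_factorization Nat.prime_two hN).2 h)
  omega

/-- A quotient of order dividing `18` onto `S₃`. -/
theorem exists_steinberg_eighteen {G : Type*} [Group G] [Finite G] (π : G →* S3)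
    (hπ : Function.Surjective π) (h18 : Nat.card G ∣ 18) :
    ∃ χ : G → ℂ, Cfsg.IsIrrCharacter G χ ∧
      ∀ P : Sylow 2 G, χ 1 = Nat.card P ∧ ∀ x : G, x ∈ P → x ≠ 1 → χ x = 0 := by
  classical
  haveI : Fact (Nat.Prime 2) := ⟨Nat.prime_two⟩
  obtain ⟨χ₀, hχ₀, hχ₁⟩ := exists_char_S3
  refine ⟨_, CfsgLib.Characters.isIrr_comp π hπ hχ₀, fun P => ?_⟩
  have h2 : 2 ∣ Nat.card G := by
    refine (show 2 ∣ Nat.card S3 from ?_).trans (Subgroup.card_dvd_of_surjective π hπ)
    rw [Nat.card_eq_fintype_card, Fintype.card_perm, Fintype.card_fin]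
    decide
  have h4 : ¬ 2 ^ (1 + 1) ∣ Nat.card G := fun h => by
    have h' := h.trans h18
    norm_num at h'
  have hP : Nat.card P = 2 := by
    rw [P.card_eq_multiplicity, factorization_two Nat.card_pos.ne' h2 h4, pow_one]
  refine ⟨by simp [hP, hχ₁], fun x hx hx1 => ?_⟩
  obtain ⟨n, ρ, hρ, hρχ⟩ := CfsgLib.Characters.isIrr_comp π hπ hχ₀
  haveI := hρ
  haveI := Fintype.ofFinite G
  show (fun g => χ₀ (π g)) x = 0
  rw [← hρχ]
  have hn : Module.finrank ℂ (Fin n → ℂ) = 2 := by
    have h1 := Representation.char_one ρ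
    rw [hρχ] at h1
    simp only [map_one, hχ₁] at h1
    exact_mod_cast h1.symm
  refine CfsgLib.Characters.char_eq_zero_of_defect_zero ρ Nat.prime_two (n := 1) (by simpa using h2) h4
    (by simp [hn]) x ?_
  have hd := orderOf_dvd_natCard (⟨x, hx⟩ : (P : Subgroup G))
  rw [Subgroup.orderOf_mk, hP] at hd
  rcases (Nat.dvd_prime Nat.prime_two).1 hd with h | h
  · exact absurd (orderOf_eq_one_iff.1 h) hx1
  · rw [h]

theorem exists_steinberg_plus_small {F : Type*} [Field F] [Fintype F] (p : ℕ) [Fact p.Prime]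
    [CharP F p] (hq : Fintype.card F = 2) :
    ∃ χ : Cfsg.POmega F (Cfsg.quadFormPlus 2 F) → ℂ,
      Cfsg.IsIrrCharacter (Cfsg.POmega F (Cfsg.quadFormPlus 2 F)) χ ∧
      ∀ P : Sylow p (Cfsg.POmega F (Cfsg.quadFormPlus 2 F)), χ 1 = Nat.card P ∧
        ∀ x : Cfsg.POmega F (Cfsg.quadFormPlus 2 F), x ∈ P → x ≠ 1 → χ x = 0 := by
  classical
  obtain ⟨k, hp', hk⟩ := FiniteField.card F p
  have hp : p = 2 := (Nat.prime_dvd_prime_iff_eq hp' Nat.prime_two).1
    (hq ▸ hk ▸ dvd_pow_self p k.pos.ne')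
  subst hp
  let e : ZMod 2 ≃+* F := ZMod.ringEquivOfPrime F Nat.prime_two hq
  let θ : ↥O2 ≃* ↥(Cfsg.isometryGroup F (Cfsg.quadFormPlus 2 F)) :=
    CfsgLib.Forms.isometryGroupCongr e _ _ (fun v => by simp [Cfsg.quadFormPlus])
  have hΩ : (commutator ↥(Cfsg.isometryGroup F (Cfsg.quadFormPlus 2 F))).map θ.symm.toMonoidHom =
      commutator ↥O2 := by
    rw [commutator_def, commutator_def, Subgroup.map_commutator,
      Subgroup.map_top_of_surjective _ θ.symm.surjective]
  let θΩ : ↥(Cfsg.Omega F (Cfsg.quadFormPlus 2 F)) ≃* ↥(Cfsg.Omega (ZMod 2) (Cfsg.quadFormPlus 2 (ZMod 2))) :=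
    (Subgroup.equivMapOfInjective _ _ θ.symm.injective).trans (MulEquiv.subgroupCongr hΩ)
  obtain ⟨π, hπ, h18⟩ := exists_hom
  let π₁ := π.comp θΩ.toMonoidHom
  have hπ₁ : Function.Surjective π₁ := hπ.comp θΩ.surjective
  have hker : Subgroup.center ↥(Cfsg.Omega F (Cfsg.quadFormPlus 2 F)) ≤ π₁.ker := fun z hz =>
    MonoidHom.mem_ker.2 <| center_S3 _ fun x => by
      obtain ⟨w, rfl⟩ := hπ₁ x
      rw [← map_mul, ← map_mul, Subgroup.mem_center_iff.1 hz w]
  let πq := QuotientGroup.lift _ π₁ hker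
  have hπq : Function.Surjective πq := QuotientGroup.lift_surjective_of_surjective _ _ hπ₁ hker
  exact exists_steinberg_eighteen πq hπq
    ((Subgroup.card_quotient_dvd_card _).trans ((Nat.card_congr θΩ.toEquiv).dvd.trans h18))

end CfsgLib.ChamberSt
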