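import Cfsg.Agent.ChamberSt.Instance
import Cfsg.Prelude.Def_Classical

/-!
# The Steinberg character of `PSU`
-/

set_option autoImplicit false
set_option linter.unusedSectionVars false
set_option linter.style.haveILetI false

namespace CfsgLib.ChamberSt

open Module
open scoped Matrix

variable {F : Type*} [Field F] [Fintype F] {n q : ℕ}

/-- The Hermitian form, semilinear in the first variable. -/
noncomputable def hermB (σ : F →+* F) : (Fin n → F) →ₛₗ[σ] (Fin n → F) →ₗ[F] F where
  toFun u := ∑ i, σ (u i) • LinearMap.proj i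
  map_add' u v := by simp [add_smul, Finset.sum_add_distrib]
  map_smul' c u := by simp [Finset.smul_sum, smul_smul]

theorem hermB_apply (σ : F →+* F) (u v : Fin n → F) : hermB σ u v = ∑ i, σ (u i) * v i := by
  simp [hermB]

/-- Vectors under a matrix hom, as linear automorphisms. -/
noncomputable def glEquiv {ι : Type} [Fintype ι] [DecidableEq ι] :
    GL ι F →* ((ι → F) ≃ₗ[F] (ι → F)) :=
  (LinearMap.GeneralLinearGroup.generalLinearEquiv F (ι → F)).toMonoidHom.comp
    Matrix.GeneralLinearGroup.toLin.toMonoidHom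

theorem glEquiv_apply {ι : Type} [Fintype ι] [DecidableEq ι] (g : GL ι F) (v : ι → F) :
    glEquiv g v = (g : Matrix ι ι F) *ᵥ v := rfl

variable (p : ℕ) [Fact p.Prime] [CharP F p]
include p

theorem exists_frob (hF : Fintype.card F = q ^ 2) :
    ∃ σ : F →+* F, (∀ a, σ a = a ^ q) ∧ (∀ a, σ (σ a) = a) ∧ ∃ a, σ a ≠ a := by
  classical
  have hp : p.Prime := Fact.out
  obtain ⟨k, -, hk⟩ := FiniteField.card F p
  have hq : q ∣ p ^ (k : ℕ) := ⟨q, by rw [← hk, hF, pow_two]⟩
  obtain ⟨e, -, rfl⟩ := (Nat.dvd_prime_pow hp).1 hq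
  refine ⟨iterateFrobenius F p e, fun a => iterateFrobenius_def p e a, fun a => ?_, ?_⟩
  · rw [iterateFrobenius_def, iterateFrobenius_def, ← pow_mul, ← pow_two, ← hF, FiniteField.pow_card]
  · by_contra h
    push Not at h
    have hq1 : 1 < p ^ e := by
      by_contra h1
      have h2 := Fintype.one_lt_card (α := F)
      rw [hF] at h2
      interval_cases (p ^ e) <;> simp at h2
    have h0 : (Polynomial.X ^ (p ^ e) - Polynomial.X : Polynomial F) ≠ 0 :=
      FiniteField.X_pow_card_sub_X_ne_zero F hq1
    have hle : Fintype.card F ≤ p ^ e := by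
      rw [← FiniteField.X_pow_card_sub_X_natDegree_eq F hq1, ← Finset.card_univ]
      refine le_trans (Finset.card_le_card fun a _ => ?_)
        ((Multiset.toFinset_card_le _).trans (Polynomial.card_roots' _))
      rw [Multiset.mem_toFinset, Polynomial.mem_roots h0]
      simp [← iterateFrobenius_def p e a, h a]
    rw [hF] at hle
    nlinarith

theorem exists_norm_neg_one (hF : Fintype.card F = q ^ 2) : ∃ a : F, a ^ (q + 1) = -1 := by
  classical
  have hp : p.Prime := Fact.out
  by_cases h2 : (2 : F) = 0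
  · exact ⟨1, by rw [one_pow]; linear_combination h2⟩
  have hodd : ringChar F ≠ 2 := fun h => h2 (by
    haveI := ringChar.eq_iff.1 h
    exact CharTwo.two_eq_zero)
  have hqo := FiniteField.odd_card_of_char_ne_two hodd
  rw [hF] at hqo
  have hqo' : q % 2 = 1 := by
    rw [Nat.pow_mod] at hqo
    rcases Nat.mod_two_eq_zero_or_one q with h | h
    · rw [h] at hqo; simp at hqo
    · exact h
  obtain ⟨g, hg⟩ := IsCyclic.exists_ofOrder_eq_natCard (α := Fˣ)
  rw [Nat.card_eq_fintype_card, Fintype.card_units, hF] at hg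
  have hq1 : 1 < q := by
    have h := Fintype.one_lt_card (α := F)
    rw [hF] at h
    by_contra h'
    interval_cases q <;> simp at h
  obtain ⟨s, hs⟩ : ∃ s, q - 1 = 2 * s := ⟨(q - 1) / 2, by omega⟩
  have hsq : q ^ 2 - 1 = (q - 1) * (q + 1) := by
    rw [Nat.pow_two, show q * q - 1 = q * q - 1 * 1 from by ring_nf, Nat.mul_self_sub_mul_self_eq, mul_comm]
  have hne : g ^ (s * (q + 1)) ≠ 1 := fun h => by
    have hd := Nat.le_of_dvd (Nat.mul_pos (by omega) (Nat.succ_pos q)) (orderOf_dvd_of_pow_eq_one h)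
    rw [hg, hsq, hs] at hd
    nlinarith [Nat.succ_pos q, show 0 < s by omega]
  refine ⟨((g ^ s : Fˣ) : F), ?_⟩
  have h2' : ((g ^ (s * (q + 1)) : Fˣ) : F) * ((g ^ (s * (q + 1)) : Fˣ) : F) = 1 := by
    rw [← Units.val_mul, ← pow_add, ← two_mul, ← mul_assoc, ← hs, ← hsq, ← hg, pow_orderOf_eq_one,
      Units.val_one]
  rcases mul_self_eq_one_iff.1 h2' with h | h
  · exact absurd (Units.val_eq_one.1 h) hne
  · rw [← Units.val_pow_eq_pow_val, ← pow_mul, h]

theorem exists_suGeo (hF : Fintype.card F = q ^ 2) :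
    ∃ Γ : Geo F (Fin n → F), Γ.m = n / 2 ∧ (∀ u v, Γ.B u v = Cfsg.hermForm n F q v u) ∧
      (∀ v, Γ.q v = Γ.B v v) ∧ ∃ c : F, c ≠ 0 ∧ Γ.T c = 0 := by
  classical
  obtain ⟨σ, hσ, hσσ, a₁, ha₁⟩ := exists_frob p hF
  obtain ⟨ν, hν⟩ := exists_norm_neg_one p hF
  have hswap : ∀ u v : Fin n → F, hermB σ v u = σ (hermB σ u v) := by
    intro u v
    simp [hermB_apply, hσσ, mul_comm]
  let T : F →+ F := AddMonoidHom.id F + σ.toAddMonoidHom
  obtain ⟨a₀, ha₀⟩ : ∃ a, a + σ a ≠ 0 := by
    by_contra h
    push Not at h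
    have h1 := h 1
    rw [map_one] at h1
    exact ha₁ (by linear_combination (h a₁ - a₁ * h1))
  refine ⟨{
    σ := σ
    σσ := hσσ
    B := hermB σ
    q := fun v => hermB σ v v
    T := T
    m := n / 2
    refl := fun u v h => by rw [hswap, h, map_zero]
    ε := 1
    herm := fun u v => by rw [hswap, one_mul]
    nd := fun x h => funext fun i => by
      have h' := h (Pi.single i 1)
      rw [hermB_apply, Finset.sum_eq_single i (fun j _ hj => by simp [hj]) (by simp)] at h'
      simpa using h'
    q_add := fun u v => by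
      have e : T (hermB σ u v) = hermB σ u v + hermB σ v u := by rw [hswap u v]; rfl
      simp only [map_add, LinearMap.add_apply, e]
      ring
    q_smul := fun c v h => by simp only [LinearMap.map_smulₛₗ, LinearMap.smul_apply, RingHom.id_apply, h, smul_zero]
    q_self := fun v h => h
    hT := fun v => ⟨hermB σ v v / (a₀ + σ a₀) * a₀, by
      have hfix : σ (hermB σ v v) = hermB σ v v := (hswap v v).symm
      have hfix' : σ (a₀ + σ a₀) = a₀ + σ a₀ := by rw [map_add, hσσ, add_comm]
      show hermB σ v v / (a₀ + σ a₀) * a₀ + σ (hermB σ v v / (a₀ + σ a₀) * a₀) = hermB σ v v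
      rw [map_mul, map_div₀, hfix, hfix', ← mul_add, div_mul_cancel₀ _ ha₀]⟩
    max' := fun X hX => ?_
    full' := ?_ }, rfl, fun u v => ?_, fun v => rfl, a₁ - σ a₁, sub_ne_zero.2 ha₁.symm, ?_⟩
  · let b := Module.finBasis F X
    let M : Matrix (Fin (finrank F X)) (Fin n) F := fun i j => σ ((b i : Fin n → F) j)
    have hli : LinearIndependent F M.row := by
      rw [Fintype.linearIndependent_iff]
      intro c hc i
      have h0 : ∑ j, σ (c j) • (b j : Fin n → F) = 0 := funext fun l => by
        have := congrArg σ (congrFun hc l)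
        simpa [M, Matrix.row, hσσ] using this
      have := Fintype.linearIndependent_iff.1 b.linearIndependent (fun j => σ (c j))
        (Subtype.ext (by simpa using h0)) i
      simpa using congrArg σ this
    have hr := hli.rank_matrix
    have hker : X ≤ LinearMap.ker M.mulVecLin := fun v hv => by
      rw [LinearMap.mem_ker]
      funext i
      have h := (hX (b i : Fin n → F) (b i).2).2 v hv
      rw [hermB_apply] at h
      exact h
    have h1 := LinearMap.finrank_range_add_finrank_ker M.mulVecLin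
    rw [show finrank F (LinearMap.range M.mulVecLin) = M.rank from rfl, hr, finrank_fin_fun] at h1
    have h2 := Submodule.finrank_mono hker
    simp only [Fintype.card_fin] at h1
    omega
  · let v : Fin (n / 2) → Fin n → F := fun i =>
      Pi.single (⟨2 * i, by omega⟩ : Fin n) 1 + Pi.single (⟨2 * i + 1, by omega⟩ : Fin n) ν
    have hvv : ∀ i j, hermB σ (v i) (v j) = 0 := by
      intro i j
      have hs : ∀ (x y : Fin n) (c d : F),
          hermB σ (Pi.single x c : Fin n → F) (Pi.single y d) = if x = y then σ c * d else 0 := by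
        intro x y c d
        rw [hermB_apply, Finset.sum_eq_single x (fun l _ hl => by simp [hl]) (by simp), Pi.single_eq_same,
          Pi.single_apply]
        split_ifs <;> simp
      simp only [v, map_add, LinearMap.add_apply]
      simp only [hs, Fin.mk.injEq]
      by_cases hij : i = j
      · subst hij
        rw [if_pos rfl, if_neg (by omega), if_neg (by omega), if_pos rfl, map_one, mul_one, hσ,
          ← pow_succ, hν]
        ring
      · have hne : (i : ℕ) ≠ j := fun e => hij (Fin.ext e)
        rw [if_neg (by omega), if_neg (by omega), if_neg (by omega), if_neg (by omega)]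
        ring
    refine ⟨Submodule.span F (Set.range v), ?_, ?_⟩
    · have h1 : ∀ u ∈ Submodule.span F (Set.range v), ∀ w ∈ Submodule.span F (Set.range v),
          hermB σ u w = 0 := by
        intro u hu w hw
        induction hw using Submodule.span_induction with
        | mem x hx =>
          obtain ⟨j, rfl⟩ := hx
          induction hu using Submodule.span_induction with
          | mem y hy => obtain ⟨i, rfl⟩ := hy; exact hvv i j
          | zero => simp
          | add x y _ _ hx hy => simp [hx, hy]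
          | smul c x _ hx => simp [hx]
        | zero => simp
        | add x y _ _ hx hy => simp [hx, hy]
        | smul c x _ hx => simp [hx]
      exact fun u hu => ⟨h1 u hu u hu, h1 u hu⟩
    · have hli : LinearIndependent F v := Fintype.linearIndependent_iff.2 fun c hc i => by
        have h := congrFun hc (⟨2 * i, by omega⟩ : Fin n)
        simp only [Finset.sum_apply, Pi.smul_apply, Pi.zero_apply, v, Pi.add_apply] at h
        rw [Finset.sum_eq_single i (fun j _ hj => by
          have : (j : ℕ) ≠ i := fun e => hj (Fin.ext e)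
          rw [Pi.single_eq_of_ne (by simp only [ne_eq, Fin.mk.injEq]; omega),
            Pi.single_eq_of_ne (by simp only [ne_eq, Fin.mk.injEq]; omega), add_zero, smul_zero]) (by simp)] at h
        simpa using h
      exact (finrank_span_eq_card hli).trans (Fintype.card_fin _)
  · rw [hermB_apply, Cfsg.hermForm]
    exact Finset.sum_congr rfl fun i _ => by rw [hσ, mul_comm]
  · show (a₁ - σ a₁) + σ (a₁ - σ a₁) = 0
    rw [map_sub, hσσ]; ring

theorem exists_steinberg_PSU (hF : Fintype.card F = q ^ 2) :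
    ∃ χ : Cfsg.PSU n F q → ℂ, Cfsg.IsIrrCharacter (Cfsg.PSU n F q) χ ∧
      ∀ P : Sylow p (Cfsg.PSU n F q), χ 1 = Nat.card P ∧
        ∀ x : Cfsg.PSU n F q, x ∈ P → x ≠ 1 → χ x = 0 := by
  classical
  obtain ⟨Γ, hm, hB, hq, hT⟩ := exists_suGeo p (n := n) hF
  let ι₀ : Cfsg.SU n F q →* ((Fin n → F) ≃ₗ[F] (Fin n → F)) :=
    glEquiv.comp (Matrix.SpecialLinearGroup.toGL.comp (Cfsg.SU n F q).subtype)
  have hmem : ∀ g, ι₀ g ∈ Γ.isom := fun g => by
    have hBg : ∀ u v, Γ.B (ι₀ g u) (ι₀ g v) = Γ.B u v := fun u v => by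
      rw [hB, hB]; exact g.2 v u
    exact ⟨hBg, fun v => by rw [hq, hq]; exact hBg v v⟩
  refine Geo.exists_steinberg (ι := ι₀.codRestrict Γ.isom hmem) (Geo.ample_of_thick (Or.inr hT) ?_ ?_ ?_)
  · intro A B h
    have h' : ι₀ A = ι₀ B := congrArg Subtype.val h
    exact Subtype.ext (Subtype.ext (Matrix.ext_iff_mulVec.2 fun v => LinearEquiv.congr_fun h' v))
  · intro C u hu
    obtain ⟨k, hk⟩ := C.isPGroup_unip p ⟨u, hu⟩
    set M := LinearMap.toMatrix' ((u : (Fin n → F) ≃ₗ[F] (Fin n → F)) : (Fin n → F) →ₗ[F] (Fin n → F)) with hM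
    have hpow : ∀ j : ℕ, LinearMap.toMatrix' (((u ^ j : Γ.isom) : (Fin n → F) ≃ₗ[F] (Fin n → F)) :
        (Fin n → F) →ₗ[F] (Fin n → F)) = M ^ j := by
      intro j
      induction j with
      | zero => exact LinearMap.toMatrix'_id
      | succ j ih =>
        rw [pow_succ, pow_succ, ← ih, hM, ← LinearMap.toMatrix'_comp]
        rfl
    have hdet : M.det = 1 := by
      have h1 : M ^ p ^ k = 1 := by
        rw [← hpow, show u ^ p ^ k = 1 from congrArg Subtype.val hk]
        exact LinearMap.toMatrix'_id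
      have h2 : M.det ^ p ^ k = 1 := by rw [← Matrix.det_pow, h1, Matrix.det_one]
      exact sub_eq_zero.1 (eq_zero_of_pow_eq_zero (n := p ^ k)
        (by rw [sub_pow_char_pow, h2, one_pow, sub_self]))
    refine ⟨⟨⟨M, hdet⟩, fun a b => ?_⟩, Subtype.ext (LinearEquiv.ext fun v => ?_)⟩
    · show Cfsg.hermForm n F q (M *ᵥ a) (M *ᵥ b) = Cfsg.hermForm n F q a b
      rw [← hB, ← hB, hM, LinearMap.toMatrix'_mulVec, LinearMap.toMatrix'_mulVec]
      exact u.2.1 b a
    · exact LinearMap.toMatrix'_mulVec ((u : (Fin n → F) ≃ₗ[F] (Fin n → F)) : (Fin n → F) →ₗ[F] (Fin n → F)) v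
  · intro g hg C hC
    exact Geo.mid_of_le p (by rw [finrank_fin_fun]; omega) _ (Geo.map_pow_one hg) C hC

end CfsgLib.ChamberSt
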