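import Cfsg.Agent.ChamberSt.Instance
import Cfsg.Agent.Forms.Symplectic
import Cfsg.Prelude.Def_Classical
import Cfsg.Prelude.Def_ClassicalGeometry

/-!
# The Steinberg character of `PSp`
-/

set_option autoImplicit false
set_option linter.unusedSectionVars false
set_option linter.style.haveILetI false

namespace CfsgLib.ChamberSt

open Module
open scoped Matrix

variable {F : Type*} [Field F] {m : ℕ}

theorem finrank_le_of_sympForm_zero (X : Submodule F (Fin m ⊕ Fin m → F))
    (hX : ∀ u ∈ X, ∀ v ∈ X, Cfsg.sympForm m F u v = 0) : finrank F X ≤ m := by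
  have h := LinearMap.BilinForm.finrank_orthogonal (CfsgLib.Forms.sympBilin_nondegenerate (m := m) (F := F)) X
  have hle : finrank F X ≤ finrank F ((CfsgLib.Forms.sympBilin m F).orthogonal X) :=
    Submodule.finrank_mono fun v hv u hu => by
      show CfsgLib.Forms.sympBilin m F u v = 0
      rw [CfsgLib.Forms.sympBilin_apply]; exact hX u hu v hv
  have hn : finrank F (Fin m ⊕ Fin m → F) = m + m := by simp
  have := Submodule.finrank_le X
  omega

/-- The symplectic polar geometry. -/
noncomputable def spGeo (m : ℕ) (F : Type*) [Field F] : Geo F (Fin m ⊕ Fin m → F) where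
  σ := RingHom.id F
  σσ _ := rfl
  B := CfsgLib.Forms.sympBilin m F
  q _ := 0
  T := 0
  m := m
  refl u v h := by
    rw [CfsgLib.Forms.sympBilin_apply] at h ⊢
    rw [CfsgLib.Forms.sympForm_swap, h, neg_zero]
  ε := -1
  herm u v := by
    rw [RingHom.id_apply, neg_one_mul, CfsgLib.Forms.sympBilin_apply, CfsgLib.Forms.sympBilin_apply,
      CfsgLib.Forms.sympForm_swap]
  nd x h := CfsgLib.Forms.sympForm_sep x fun v => (CfsgLib.Forms.sympBilin_apply x v).symm.trans (h v)
  q_add _ _ := by simp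
  q_smul _ _ _ := rfl
  q_self v _ := by rw [CfsgLib.Forms.sympBilin_apply]; exact CfsgLib.Forms.sympForm_self v
  hT _ := ⟨0, rfl⟩
  max' X hX := finrank_le_of_sympForm_zero X fun u hu v hv =>
    (CfsgLib.Forms.sympBilin_apply u v).symm.trans ((hX u hu).2 v hv)
  full' := by
    refine ⟨Submodule.span F (Set.range fun i : Fin m =>
      (Pi.single (Sum.inl i) 1 : Fin m ⊕ Fin m → F)), fun u hu => ⟨rfl, fun v hv => ?_⟩, ?_⟩
    · have h0 : ∀ w ∈ Submodule.span F (Set.range fun i : Fin m =>
          (Pi.single (Sum.inl i) 1 : Fin m ⊕ Fin m → F)), ∀ i, w (Sum.inr i) = 0 := fun w hw i => by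
        induction hw using Submodule.span_induction with
        | mem x hx => obtain ⟨j, rfl⟩ := hx; simp
        | zero => simp
        | add x y _ _ hx hy => simp [hx, hy]
        | smul c x _ hx => simp [hx]
      rw [CfsgLib.Forms.sympBilin_apply, CfsgLib.Forms.sympForm_eq_sum]
      exact Finset.sum_eq_zero fun i _ => by simp [h0 u hu i, h0 v hv i]
    · have hli : LinearIndependent F fun i : Fin m =>
          (Pi.single (Sum.inl i) 1 : Fin m ⊕ Fin m → F) := by
        simpa [Function.comp_def, Pi.basisFun_apply] using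
          (Pi.basisFun F (Fin m ⊕ Fin m)).linearIndependent.comp _ Sum.inl_injective
      exact (finrank_span_eq_card hli).trans (Fintype.card_fin m)

/-- The symplectic group as isometries. -/
noncomputable def spHom (m : ℕ) (F : Type*) [Field F] :
    Matrix.symplecticGroup (Fin m) F →* (spGeo m F).isom where
  toFun A :=
    ⟨{ toFun := fun v => A.1 *ᵥ v
       map_add' := Matrix.mulVec_add _
       map_smul' := fun c v => Matrix.mulVec_smul _ c v
       invFun := fun v => (A⁻¹ : Matrix.symplecticGroup (Fin m) F).1 *ᵥ v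
       left_inv := fun v => by
         show (A⁻¹ : Matrix.symplecticGroup (Fin m) F).1 *ᵥ (A.1 *ᵥ v) = v
         rw [Matrix.mulVec_mulVec, ← Submonoid.coe_mul, inv_mul_cancel, Submonoid.coe_one, Matrix.one_mulVec]
       right_inv := fun v => by
         show A.1 *ᵥ ((A⁻¹ : Matrix.symplecticGroup (Fin m) F).1 *ᵥ v) = v
         rw [Matrix.mulVec_mulVec, ← Submonoid.coe_mul, mul_inv_cancel, Submonoid.coe_one, Matrix.one_mulVec] },
    fun u v => by
      show CfsgLib.Forms.sympBilin m F (A.1 *ᵥ u) (A.1 *ᵥ v) = CfsgLib.Forms.sympBilin m F u v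
      rw [CfsgLib.Forms.sympBilin_apply, CfsgLib.Forms.sympBilin_apply]
      exact CfsgLib.Forms.sympForm_map A u v, fun _ => rfl⟩
  map_one' := by
    apply Subtype.ext
    ext1 v
    exact Matrix.one_mulVec v
  map_mul' A B := by
    apply Subtype.ext
    ext1 v
    exact (Matrix.mulVec_mulVec v A.1 B.1).symm

theorem spHom_apply (A : Matrix.symplecticGroup (Fin m) F) (v : Fin m ⊕ Fin m → F) :
    (spHom m F A : (Fin m ⊕ Fin m → F) ≃ₗ[F] (Fin m ⊕ Fin m → F)) v = A.1 *ᵥ v := rfl

theorem exists_steinberg_PSp [Fintype F] (p : ℕ) [Fact p.Prime] [CharP F p] (m : ℕ) :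
    ∃ χ : Cfsg.PSp m F → ℂ, Cfsg.IsIrrCharacter (Cfsg.PSp m F) χ ∧
      ∀ P : Sylow p (Cfsg.PSp m F), χ 1 = Nat.card P ∧
        ∀ x : Cfsg.PSp m F, x ∈ P → x ≠ 1 → χ x = 0 := by
  refine Geo.exists_steinberg (ι := spHom m F) (Geo.ample_of_thick (Or.inr ⟨1, one_ne_zero, rfl⟩) ?_ ?_ ?_)
  · intro A B h
    exact CfsgLib.Forms.sp_ext fun v => LinearEquiv.congr_fun (congrArg Subtype.val h) v
  · intro C u _
    obtain ⟨A, hA⟩ := CfsgLib.Forms.exists_sp_of_linearMap
      ((u : (Fin m ⊕ Fin m → F) ≃ₗ[F] (Fin m ⊕ Fin m → F)) : (Fin m ⊕ Fin m → F) →ₗ[F] _) fun a b => by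
        rw [← CfsgLib.Forms.sympBilin_apply, ← CfsgLib.Forms.sympBilin_apply]
        exact u.2.1 a b
    exact ⟨A, Subtype.ext (LinearEquiv.ext fun v => hA v)⟩
  · intro g hg C hC
    exact Geo.mid_of_le p (by simp [spGeo]; omega) _ (Geo.map_pow_one hg) C hC

end CfsgLib.ChamberSt
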