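import Mathlib

/-!
# Flags of totally isotropic subspaces and their distance from a given flag

The panel of a flag at `k + 1` consists of the flags differing at most in that member.  If a flag is
not opposite to `C` then at some panel it is strictly closest to `C`.
-/

set_option autoImplicit false
set_option linter.unusedSectionVars false

namespace CfsgLib.ChamberSt

open Module Submodule

variable {F V : Type*} [Field F] [AddCommGroup V] [Module F V]

/-- A non-degenerate reflexive form with its notion of singular vector and its Witt index. -/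
structure Geo (F V : Type*) [Field F] [AddCommGroup V] [Module F V] where
  σ : F →+* F
  σσ : ∀ a, σ (σ a) = a
  B : V →ₛₗ[σ] V →ₗ[F] F
  q : V → F
  T : F →+ F
  m : ℕ
  refl : ∀ u v, B u v = 0 → B v u = 0
  ε : F
  herm : ∀ u v, B v u = ε * σ (B u v)
  nd : ∀ x, (∀ y, B x y = 0) → x = 0
  q_add : ∀ u v, q (u + v) = q u + q v + T (B u v)
  q_smul : ∀ (c : F) v, q v = 0 → q (c • v) = 0
  q_self : ∀ v, q v = 0 → B v v = 0
  hT : ∀ v, ∃ a, T a = q v
  max' : ∀ X : Submodule F V, (∀ u ∈ X, q u = 0 ∧ ∀ v ∈ X, B u v = 0) → finrank F X ≤ m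
  full' : ∃ X : Submodule F V, (∀ u ∈ X, q u = 0 ∧ ∀ v ∈ X, B u v = 0) ∧ finrank F X = m

namespace Geo

variable (Γ : Geo F V)

/-- Totally singular. -/
def TI (X : Submodule F V) : Prop := ∀ u ∈ X, Γ.q u = 0 ∧ ∀ v ∈ X, Γ.B u v = 0

/-- The orthogonal subspace. -/
def pp (X : Submodule F V) : Submodule F V where
  carrier := {v | ∀ u ∈ X, Γ.B u v = 0}
  add_mem' := fun ha hb u hu => by rw [map_add, ha u hu, hb u hu, add_zero]
  zero_mem' := fun u _ => map_zero _
  smul_mem' := fun c v hv u hu => by rw [map_smul, hv u hu, smul_zero]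

theorem mem_pp {X : Submodule F V} {v : V} : v ∈ Γ.pp X ↔ ∀ u ∈ X, Γ.B u v = 0 := Iff.rfl

theorem pp_anti {X Y : Submodule F V} (h : X ≤ Y) : Γ.pp Y ≤ Γ.pp X := fun _ hv u hu => hv u (h hu)

theorem pp_bot : Γ.pp ⊥ = ⊤ := eq_top_iff.2 fun v _ u hu => by
  rw [(mem_bot F).1 hu, map_zero, LinearMap.zero_apply]

theorem pp_sup (X Y : Submodule F V) : Γ.pp (X ⊔ Y) = Γ.pp X ⊓ Γ.pp Y := by
  refine le_antisymm (le_inf (Γ.pp_anti le_sup_left) (Γ.pp_anti le_sup_right)) ?_
  rintro v ⟨hX, hY⟩ u hu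
  obtain ⟨a, ha, b, hb, rfl⟩ := mem_sup.1 hu
  rw [map_add, LinearMap.add_apply, hX a ha, hY b hb, add_zero]

theorem q_zero : Γ.q 0 = 0 := by
  simpa using Γ.q_add 0 0

theorem le_pp_pp (X : Submodule F V) : X ≤ Γ.pp (Γ.pp X) := fun x hx _ hu => Γ.refl _ _ (hu x hx)

variable [FiniteDimensional F V]

theorem finrank_pp_add (X : Submodule F V) : finrank F (Γ.pp X) + finrank F X = finrank F V := by
  let b := Module.finBasis F X
  let φ : V →ₗ[F] (Fin (finrank F X) → F) := LinearMap.pi fun i => Γ.B (b i : V)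
  have hker : LinearMap.ker φ = Γ.pp X := by
    ext v
    refine ⟨fun h u hu => ?_, fun h => funext fun i => h _ (b i).2⟩
    have e : u = ∑ i, b.repr ⟨u, hu⟩ i • (b i : V) := by
      have := congrArg Subtype.val (b.sum_repr ⟨u, hu⟩)
      simp only [Submodule.coe_sum, Submodule.coe_smul] at this
      exact this.symm
    rw [e, map_sum, LinearMap.sum_apply]
    refine Finset.sum_eq_zero fun i _ => ?_
    rw [LinearMap.map_smulₛₗ, LinearMap.smul_apply,
      show Γ.B (b i : V) v = 0 from congrFun (LinearMap.mem_ker.1 h) i, smul_zero]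
  have hsurj : LinearMap.range φ = ⊤ := by
    by_contra hne
    obtain ⟨g, hg0, hg⟩ := Submodule.exists_le_ker_of_lt_top _ (lt_top_iff_ne_top.2 hne)
    apply hg0
    set a : Fin (finrank F X) → F := fun i => g (Pi.single i 1) with ha
    have hga : ∀ w, g w = ∑ i, a i * w i := fun w => by
      conv_lhs => rw [pi_eq_sum_univ' w, map_sum]
      exact Finset.sum_congr rfl fun i _ => by rw [map_smul, smul_eq_mul, mul_comm, ha]
    have h0 : (∑ i, Γ.σ (a i) • (b i : V)) = 0 := Γ.nd _ fun v => by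
      rw [map_sum, LinearMap.sum_apply]
      have := hg (LinearMap.mem_range_self φ v)
      rw [LinearMap.mem_ker, hga] at this
      rw [← this]
      exact Finset.sum_congr rfl fun i _ => by
        rw [LinearMap.map_smulₛₗ, Γ.σσ, LinearMap.smul_apply, smul_eq_mul]; rfl
    have hli := Fintype.linearIndependent_iff.1 b.linearIndependent (fun i => Γ.σ (a i))
      (Subtype.ext (by simpa using h0))
    refine LinearMap.ext fun w => ?_
    rw [hga, LinearMap.zero_apply]
    exact Finset.sum_eq_zero fun i _ => by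
      rw [show a i = 0 by simpa using congrArg Γ.σ (hli i), zero_mul]
  have h := LinearMap.finrank_range_add_finrank_ker φ
  rw [hker, hsurj, finrank_top, finrank_fin_fun] at h
  omega

theorem pp_pp (X : Submodule F V) : Γ.pp (Γ.pp X) = X := by
  refine (eq_of_le_of_finrank_le (Γ.le_pp_pp X) ?_).symm
  have := Γ.finrank_pp_add X
  have := Γ.finrank_pp_add (Γ.pp X)
  omega

theorem TI.mono {X Y : Submodule F V} (h : Γ.TI Y) (hle : X ≤ Y) : Γ.TI X :=
  fun u hu => ⟨(h u (hle hu)).1, fun v hv => (h u (hle hu)).2 v (hle hv)⟩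

theorem TI.le_pp {X : Submodule F V} (h : Γ.TI X) : X ≤ Γ.pp X := fun v hv u hu => (h u hu).2 v hv

theorem TI.sup {X Y : Submodule F V} (hX : Γ.TI X) (hY : Γ.TI Y) (h : Y ≤ Γ.pp X) :
    Γ.TI (X ⊔ Y) := by
  intro u hu
  obtain ⟨a, ha, b, hb, rfl⟩ := mem_sup.1 hu
  refine ⟨by rw [Γ.q_add, (hX a ha).1, (hY b hb).1, h hb a ha, map_zero, add_zero, add_zero], fun v hv => ?_⟩
  obtain ⟨c, hc, d, hd, rfl⟩ := mem_sup.1 hv
  simp [(hX a ha).2 c hc, (hY b hb).2 d hd, h hd a ha, Γ.refl c b (h hb c hc)]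

theorem TI_span_singleton {v : V} (h : Γ.q v = 0) : Γ.TI (span F {v}) := by
  intro u hu
  obtain ⟨c, rfl⟩ := mem_span_singleton.1 hu
  refine ⟨Γ.q_smul c v h, fun w hw => ?_⟩
  obtain ⟨d, rfl⟩ := mem_span_singleton.1 hw
  simp [Γ.q_self v h]

theorem mem_of_singular {X : Submodule F V} (hX : Γ.TI X) (hd : finrank F X = Γ.m) {v : V}
    (hv : Γ.q v = 0) (hvX : v ∈ Γ.pp X) : v ∈ X := by
  have h := Γ.max' _ (hX.sup Γ (Γ.TI_span_singleton hv) ((span_singleton_le_iff_mem _ _).2 hvX))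
  have e := eq_of_le_of_finrank_le (le_sup_left : X ≤ X ⊔ span F {v}) (by omega)
  rw [e]
  exact mem_sup_right (mem_span_singleton_self v)

theorem two_m_le : 2 * Γ.m ≤ finrank F V := by
  obtain ⟨X, hX, hd⟩ := Γ.full'
  have := Submodule.finrank_mono (TI.le_pp Γ hX)
  have := Γ.finrank_pp_add X
  omega

omit [FiniteDimensional F V] in
/-- A flag of totally singular subspaces of every dimension up to the Witt index. -/
structure Flag where
  x : ℕ → Submodule F V
  mono : ∀ i, x i ≤ x (i + 1)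
  dim : ∀ i, i ≤ Γ.m → finrank F (x i) = i
  ti : Γ.TI (x Γ.m)
  top : ∀ i, Γ.m ≤ i → x i = x Γ.m

namespace Flag

variable {Γ} (C D : Γ.Flag)

theorem le {i j : ℕ} (h : i ≤ j) : C.x i ≤ C.x j := monotone_nat_of_le_succ C.mono h

theorem ti' (i : ℕ) : Γ.TI (C.x i) := by
  rcases le_total i Γ.m with h | h
  · exact C.ti.mono Γ (C.le h)
  · rw [C.top i h]; exact C.ti

theorem x_zero : C.x 0 = ⊥ := finrank_eq_zero.1 (C.dim 0 (Nat.zero_le _))

theorem ext' {C D : Γ.Flag} (h : ∀ i ≤ Γ.m, C.x i = D.x i) : C = D := by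
  have : C.x = D.x := funext fun i => by
    rcases le_total i Γ.m with hi | hi
    · exact h i hi
    · rw [C.top i hi, D.top i hi, h _ le_rfl]
  cases C; cases D; cases this; rfl

instance [Finite V] : Finite Γ.Flag :=
  Finite.of_injective (fun (C : Γ.Flag) (i : Fin (Γ.m + 1)) => (C.x i : Set V)) fun C D h =>
    Flag.ext' fun i hi => SetLike.coe_injective (congrFun h ⟨i, by omega⟩)

/-- Opposite flags. -/
def Opp : Prop := ∀ i ≤ Γ.m, D.x i ⊓ Γ.pp (C.x i) = ⊥

theorem inf_pp_comm {C D : Γ.Flag} {i : ℕ} (hi : i ≤ Γ.m) (h : D.x i ⊓ Γ.pp (C.x i) = ⊥) :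
    C.x i ⊓ Γ.pp (D.x i) = ⊥ := by
  have h1 := Submodule.finrank_sup_add_finrank_inf_eq (D.x i) (Γ.pp (C.x i))
  rw [h, finrank_bot, D.dim i hi] at h1
  have h2 := Γ.finrank_pp_add (C.x i)
  rw [C.dim i hi] at h2
  have h3 : D.x i ⊔ Γ.pp (C.x i) = ⊤ := Submodule.eq_top_of_finrank_eq (by omega)
  have h4 := Γ.finrank_pp_add (⊤ : Submodule F V)
  rw [finrank_top] at h4
  have h5 : Γ.pp (⊤ : Submodule F V) = ⊥ := finrank_eq_zero.1 (by omega)
  rw [← h3, Γ.pp_sup, Γ.pp_pp] at h5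
  rw [inf_comm]; exact h5

theorem Opp.symm {C D : Γ.Flag} (h : Opp C D) : Opp D C := fun i hi => inf_pp_comm hi (h i hi)

/-- The subspaces measuring the position with respect to `C`. -/
def L (t : ℕ) : Submodule F V := if t ≤ Γ.m then C.x t else Γ.pp (C.x (2 * Γ.m - t))

theorem L_mono {s t : ℕ} (h : s ≤ t) : C.L s ≤ C.L t := by
  unfold L
  split_ifs with h1 h2 h2
  · exact C.le h
  · exact le_trans ((C.le h1).trans (C.ti.le_pp Γ)) (Γ.pp_anti (C.le (by omega)))
  · omega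
  · exact Γ.pp_anti (C.le (by omega))

theorem L_top : C.L (2 * Γ.m) ⊔ C.x Γ.m = C.L (2 * Γ.m) := sup_eq_left.2 <| by
  have h : C.L Γ.m = C.x Γ.m := if_pos le_rfl
  exact h ▸ C.L_mono (by omega)

theorem mem_L_two_m {v : V} (hv : Γ.q v = 0) (h : v ∈ Γ.pp (C.x 0)) : v ∈ C.L (2 * Γ.m) := by
  unfold L
  split_ifs with h1
  · have h0 : Γ.m = 0 := by omega
    have := Γ.mem_of_singular C.ti (C.dim _ le_rfl) hv (by rw [h0]; exact h)
    simpa [h0] using this
  · simpa using h

theorem inf_L_two_m (Y : Submodule F V) (hY : Γ.TI Y) : Y ⊓ C.L (2 * Γ.m) = Y :=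
  inf_eq_left.2 fun v hv => C.mem_L_two_m (hY v hv).1 (by rw [C.x_zero, Γ.pp_bot]; trivial)

theorem finrank_inf_step {A A' Y : Submodule F V} (hA : A ≤ A') (hd : finrank F A' ≤ finrank F A + 1) :
    finrank F ↥(Y ⊓ A') ≤ finrank F ↥(Y ⊓ A) + 1 := by
  have h1 := Submodule.finrank_sup_add_finrank_inf_eq (Y ⊓ A') A
  rw [inf_assoc, inf_eq_right.2 hA] at h1
  have h2 := Submodule.finrank_mono (sup_le (inf_le_right : Y ⊓ A' ≤ A') hA)
  omega

theorem inf_L_succ {Y : Submodule F V} (hY : Γ.TI Y) (t : ℕ) :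
    finrank F ↥(Y ⊓ C.L (t + 1)) ≤ finrank F ↥(Y ⊓ C.L t) + 1 := by
  have hp : ∀ i ≤ Γ.m, finrank F (Γ.pp (C.x i)) + i = finrank F V := fun i hi => by
    have := Γ.finrank_pp_add (C.x i); rw [C.dim i hi] at this; exact this
  rcases lt_trichotomy t Γ.m with h | h | h
  · refine finrank_inf_step (C.L_mono (Nat.le_succ t)) ?_
    rw [L, L, if_pos (by omega), if_pos (by omega), C.dim _ (by omega), C.dim _ (by omega)]
  · subst h
    rw [L, if_neg (by omega), L, if_pos le_rfl]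
    have e : Y ⊓ C.x Γ.m = Y ⊓ Γ.pp (C.x Γ.m) :=
      le_antisymm (inf_le_inf_left _ (C.ti.le_pp Γ))
        fun v hv => ⟨hv.1, Γ.mem_of_singular C.ti (C.dim _ le_rfl) (hY v hv.1).1 hv.2⟩
    rw [e]
    refine finrank_inf_step (Γ.pp_anti (C.le (by omega))) ?_
    have := hp Γ.m le_rfl
    have := hp (2 * Γ.m - (Γ.m + 1)) (by omega)
    omega
  · refine finrank_inf_step (C.L_mono (Nat.le_succ t)) ?_
    rw [L, L, if_neg (by omega), if_neg (by omega)]
    have := hp (2 * Γ.m - t) (by omega)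
    have := hp (2 * Γ.m - (t + 1)) (by omega)
    omega

/-- The distance from being opposite. -/
noncomputable def μ : ℕ :=
  ∑ i ∈ Finset.range (Γ.m + 1), ∑ t ∈ Finset.range (2 * Γ.m + 1), finrank F ↥(D.x i ⊓ C.L t)

/-- Flags differing at most at `k + 1`. -/
def Adj (k : ℕ) : Prop := ∀ i ≤ Γ.m, i ≠ k + 1 → C.x i = D.x i

/-- The space in which the member `k + 1` moves. -/
def upper (k : ℕ) : Submodule F V := if k + 1 < Γ.m then D.x (k + 2) else Γ.pp (D.x k)

theorem le_upper (k : ℕ) : D.x (k + 1) ≤ D.upper k := by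
  unfold upper; split_ifs
  · exact D.le (by omega)
  · exact le_trans ((D.ti' (k + 1)).le_pp Γ) (Γ.pp_anti (D.le (by omega)))

theorem Adj.upper_eq {C D : Γ.Flag} {k : ℕ} (hk : k < Γ.m) (h : Adj C D k) : C.upper k = D.upper k := by
  unfold upper; split_ifs with h1
  · exact h _ (by omega) (by omega)
  · rw [h k (by omega) (by omega)]

theorem Adj.ne {C D : Γ.Flag} {k : ℕ} (h : Adj C D k) (hne : C ≠ D) : C.x (k + 1) ≠ D.x (k + 1) :=
  fun e => hne (ext' fun i hi => if hik : i = k + 1 then hik ▸ e else h i hi hik)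

/-- `D` is nearest to `C` in its panel at `k + 1`. -/
def Star (k : ℕ) : Prop := ∃ t ≤ 2 * Γ.m, D.x (k + 1) = D.x k ⊔ (D.upper k ⊓ C.L t)

theorem sup_eq_of_not_le {z Y : Submodule F V} (hzY : z ≤ Y) (hd : finrank F Y ≤ finrank F z + 1)
    {W : Submodule F V} (hW : W ≤ Y) (hWz : ¬ W ≤ z) : z ⊔ W = Y := by
  refine eq_of_le_of_finrank_le (sup_le hzY hW) ?_
  have : finrank F z < finrank F ↥(z ⊔ W) := finrank_lt_finrank_of_lt <|
    lt_of_le_of_ne le_sup_left fun e => hWz (e ▸ le_sup_right)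
  omega

theorem μ_lt {k : ℕ} (hk : k < Γ.m) (hs : Star C D k) {D' : Γ.Flag} (ha : Adj D' D k) (hne : D' ≠ D) :
    μ C D' < μ C D := by
  obtain ⟨t, ht, hY⟩ := hs
  set z := D.x k with hz
  set Y := D.x (k + 1) with hYd
  set Y' := D'.x (k + 1) with hY'd
  have hzd : finrank F z = k := D.dim k (by omega)
  have hYd' : finrank F Y = k + 1 := D.dim _ (by omega)
  have hY'd' : finrank F Y' = k + 1 := D'.dim _ (by omega)
  have hzY' : z ≤ Y' := by rw [hz, ← ha k (by omega) (by omega)]; exact D'.mono k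
  have hY'u : Y' ≤ D.upper k := by rw [← ha.upper_eq hk]; exact D'.le_upper k
  have hAL : D.upper k ⊓ C.L t ≤ Y := by rw [hY]; exact le_sup_right
  have hnot : ¬ Y ⊓ C.L t ≤ z := fun h => by
    have : Y ≤ z := by
      rw [hY]; exact sup_le le_rfl ((le_inf hAL inf_le_right).trans h)
    have := finrank_mono this
    omega
  have hdiff : Y' ≠ Y := ha.ne hne
  have hsmall : ∀ s ≤ t, Y' ⊓ C.L s ≤ z := fun s hs => by
    by_contra hc
    refine hdiff ((sup_eq_of_not_le hzY' (by omega) inf_le_left hc).symm.trans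
      (sup_eq_of_not_le (z := z) (Y := Y) (D.mono k) (by omega) ?_ hc))
    exact (inf_le_inf hY'u (C.L_mono hs)).trans hAL
  have hle : ∀ s, finrank F ↥(Y' ⊓ C.L s) ≤ finrank F ↥(Y ⊓ C.L s) := fun s => by
    by_cases hst : s ≤ t
    · exact finrank_mono (le_inf ((inf_le_inf hY'u (C.L_mono hst)).trans hAL) inf_le_right)
    · have hlt : z ⊓ C.L s < Y ⊓ C.L s := lt_of_le_of_ne (inf_le_inf_right _ (D.mono k)) fun e =>
        hnot ((inf_le_inf_left _ (C.L_mono (by omega))).trans (e ▸ inf_le_left))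
      have h1 := finrank_lt_finrank_of_lt hlt
      have h2 := finrank_inf_step (Y := C.L s) hzY' (by omega)
      rw [inf_comm (C.L s), inf_comm (C.L s)] at h2
      omega
  have hltt : finrank F ↥(Y' ⊓ C.L t) < finrank F ↥(Y ⊓ C.L t) := by
    refine finrank_lt_finrank_of_lt (lt_of_le_of_ne
      (le_inf ((inf_le_inf_right _ hY'u).trans hAL) inf_le_right) fun e => hnot ?_)
    rw [← e]; exact hsmall t le_rfl
  refine Finset.sum_lt_sum (fun i hi => ?_) ⟨k + 1, Finset.mem_range.2 (by omega),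
    Finset.sum_lt_sum (fun s _ => hle s) ⟨t, Finset.mem_range.2 (by omega), hltt⟩⟩
  by_cases hik : i = k + 1
  · subst hik; exact Finset.sum_le_sum fun s _ => hle s
  · rw [ha i (by have := Finset.mem_range.1 hi; omega) hik]

theorem exists_star (h : ¬ Opp C D) : ∃ k < Γ.m, Star C D k := by
  classical
  by_contra hno
  apply h
  have hex : ∀ k < Γ.m, ∃ t, ¬ D.x (k + 1) ⊓ C.L t ≤ D.x k := fun k hk => ⟨2 * Γ.m, fun hle => by
    rw [C.inf_L_two_m _ (D.ti' _)] at hle
    have := finrank_mono hle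
    rw [D.dim _ (by omega), D.dim _ (by omega)] at this
    omega⟩
  have hbound : ∀ k (hk : k < Γ.m), Nat.find (hex k hk) ≤ 2 * Γ.m := fun k hk => Nat.find_min' _ <| by
    intro hle
    rw [C.inf_L_two_m _ (D.ti' _)] at hle
    have := finrank_mono hle
    rw [D.dim _ (by omega), D.dim _ (by omega)] at this
    omega
  have hsup : ∀ k (hk : k < Γ.m), D.x (k + 1) ≤ D.x k ⊔ (D.upper k ⊓ C.L (Nat.find (hex k hk))) ∧
      D.x (k + 1) ≠ D.x k ⊔ (D.upper k ⊓ C.L (Nat.find (hex k hk))) := fun k hk => by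
    refine ⟨?_, fun e => hno ⟨k, hk, _, hbound k hk, e⟩⟩
    calc D.x (k + 1) = D.x k ⊔ (D.x (k + 1) ⊓ C.L (Nat.find (hex k hk))) :=
          (sup_eq_of_not_le (D.mono k) (by rw [D.dim _ (by omega), D.dim _ (by omega)]) inf_le_left
            (Nat.find_spec (hex k hk))).symm
      _ ≤ _ := sup_le_sup_left (inf_le_inf_right _ (D.le_upper k)) _
  have hlast : ∀ k (hk : k < Γ.m), k + 1 = Γ.m → Γ.m + 1 ≤ Nat.find (hex k hk) := by
    intro k hk hkm
    by_contra hcon
    set t := Nat.find (hex k hk)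
    obtain ⟨h1, h2⟩ := hsup k hk
    apply h2
    refine eq_of_le_of_finrank_le h1 ?_
    refine le_of_le_of_eq ?_ ((D.dim _ (by omega)).trans hkm).symm
    refine Γ.max' _ (TI.sup Γ (D.ti' k) ?_ ?_)
    · refine TI.mono Γ C.ti (inf_le_right.trans ?_)
      rw [L, if_pos (by omega)]; exact C.le (by omega)
    · refine inf_le_left.trans ?_
      rw [upper, if_neg (by omega)]
  have hstep : ∀ k (hk : k + 1 < Γ.m),
      Nat.find (hex (k + 1) hk) < Nat.find (hex k (by omega)) := by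
    intro k hk
    set t := Nat.find (hex k (by omega)) with ht
    obtain ⟨h1, h2⟩ := hsup k (by omega)
    have hu : D.upper k = D.x (k + 2) := if_pos hk
    rw [hu] at h1 h2
    have hgt : ¬ D.x (k + 2) ⊓ C.L t ≤ D.x (k + 1) := fun hle =>
      h2 (le_antisymm h1 (sup_le (D.mono k) hle))
    refine lt_of_le_of_ne (Nat.find_min' _ hgt) fun e => ?_
    have hspec := Nat.find_spec (hex k (by omega : k < Γ.m))
    rw [← ht] at hspec
    obtain ⟨s, hs⟩ : ∃ s, t = s + 1 := Nat.exists_eq_succ_of_ne_zero fun h0 => by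
      rw [h0, L, if_pos (by omega), C.x_zero, inf_bot_eq] at hspec
      exact hspec bot_le
    have hmin1 : D.x (k + 2) ⊓ C.L s ≤ D.x (k + 1) :=
      not_not.1 (Nat.find_min (hex (k + 1) hk) (by omega : s < Nat.find (hex (k + 1) hk)))
    have hmin0 : D.x (k + 1) ⊓ C.L s ≤ D.x k :=
      not_not.1 (Nat.find_min (hex k (by omega)) (by omega : s < Nat.find (hex k (lt_trans (Nat.lt_succ_self k) hk))))
    have e0 : D.x (k + 2) ⊓ C.L s ≤ D.x k ⊓ C.L s :=
      le_inf ((le_inf hmin1 inf_le_right).trans hmin0) inf_le_right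
    have l0 : finrank F ↥(D.x k ⊓ C.L s) < finrank F ↥(D.x (k + 1) ⊓ C.L t) :=
      lt_of_le_of_lt (finrank_mono (inf_le_inf_left _ (C.L_mono (by omega : s ≤ t))))
        (finrank_lt_finrank_of_lt (lt_of_le_of_ne (inf_le_inf_right _ (D.mono k))
          fun e' => hspec (e' ▸ inf_le_left)))
    have l1 : finrank F ↥(D.x (k + 1) ⊓ C.L t) < finrank F ↥(D.x (k + 2) ⊓ C.L t) :=
      finrank_lt_finrank_of_lt (lt_of_le_of_ne (inf_le_inf_right _ (D.mono (k + 1)))
        fun e' => hgt (e' ▸ inf_le_left))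
    have l2 := C.inf_L_succ (D.ti' (k + 2)) s
    rw [← hs] at l2
    have l3 := finrank_mono e0
    omega
  have hbig : ∀ j k (hk : k < Γ.m), j + k + 1 = Γ.m → Γ.m + 1 + j ≤ Nat.find (hex k hk) := by
    intro j
    induction j with
    | zero => intro k hk e; exact hlast k hk (by omega)
    | succ j ih =>
      intro k hk e
      have := ih (k + 1) (by omega) (by omega)
      have := hstep k (by omega)
      omega
  intro i hi
  have hzero : ∀ j ≤ i, D.x j ⊓ C.L (2 * Γ.m - i) = ⊥ := by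
    intro j
    induction j with
    | zero => intro _; rw [D.x_zero, bot_inf_eq]
    | succ j ih =>
      intro hj
      have := hbig (Γ.m - (j + 1)) j (by omega) (by omega)
      have hmin : D.x (j + 1) ⊓ C.L (2 * Γ.m - i) ≤ D.x j :=
        not_not.1 (Nat.find_min (hex j (by omega)) (by omega))
      exact le_bot_iff.1 ((le_inf hmin inf_le_right).trans (ih (by omega)).le)
  rw [eq_bot_iff, ← hzero i le_rfl]
  refine fun v hv => ⟨hv.1, ?_⟩
  rcases eq_or_lt_of_le hi with rfl | hlt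
  · rw [L, if_pos (by omega), show 2 * Γ.m - Γ.m = Γ.m by omega]
    exact Γ.mem_of_singular C.ti (C.dim _ le_rfl) (D.ti' _ v hv.1).1 hv.2
  · rw [L, if_neg (by omega), show 2 * Γ.m - (2 * Γ.m - i) = i by omega]
    exact hv.2

theorem Adj.symm {C D : Γ.Flag} {k : ℕ} (h : Adj C D k) : Adj D C k :=
  fun i hi hk => (h i hi hk).symm

theorem Adj.trans {C D E : Γ.Flag} {k : ℕ} (h : Adj C D k) (h' : Adj D E k) : Adj C E k :=
  fun i hi hk => (h i hi hk).trans (h' i hi hk)

theorem Adj.refl (C : Γ.Flag) (k : ℕ) : Adj C C k := fun _ _ _ => rfl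

/-- Opposite in every member below the top. -/
def Sub : Prop := ∀ i < Γ.m, D.x i ⊓ Γ.pp (C.x i) = ⊥

theorem Opp.sub {C D : Γ.Flag} (h : Opp C D) : Sub C D := fun i hi => h i hi.le

theorem Sub.opp {C D : Γ.Flag} (h : Sub C D) (h' : D.x Γ.m ⊓ Γ.pp (C.x Γ.m) = ⊥) : Opp C D :=
  fun i hi => (eq_or_lt_of_le hi).elim (fun e => e ▸ h') (h i)

/-- In a panel at most one member fails at `k + 1`. -/
theorem eq_of_meet {E E₁ E₂ : Γ.Flag} {k : ℕ} (hk : k < Γ.m) (hE : Sub C E) (h1 : Adj E₁ E k)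
    (h2 : Adj E₂ E k) (n1 : E₁.x (k + 1) ⊓ Γ.pp (C.x (k + 1)) ≠ ⊥)
    (n2 : E₂.x (k + 1) ⊓ Γ.pp (C.x (k + 1)) ≠ ⊥) : E₁ = E₂ := by
  have key : ∀ E' : Γ.Flag, Adj E' E k → E'.x (k + 1) ⊓ Γ.pp (C.x (k + 1)) ≠ ⊥ →
      E'.x (k + 1) = E.x k ⊔ (E.upper k ⊓ (if k + 1 < Γ.m then Γ.pp (C.x (k + 1)) else C.x Γ.m)) := by
    intro E' ha hne
    set W := E.upper k ⊓ (if k + 1 < Γ.m then Γ.pp (C.x (k + 1)) else C.x Γ.m) with hW
    have hWd : finrank F W ≤ 1 := by
      rw [hW]
      by_cases hkm : k + 1 < Γ.m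
      · rw [if_pos hkm, upper, if_pos hkm]
        have h := Submodule.finrank_sup_add_finrank_inf_eq (E.x (k + 1)) (E.x (k + 2) ⊓ Γ.pp (C.x (k + 1)))
        rw [← inf_assoc, inf_eq_left.2 (E.mono (k + 1)), hE _ hkm, finrank_bot,
          E.dim _ (by omega)] at h
        have := finrank_mono (sup_le (E.mono (k + 1)) (inf_le_left : E.x (k + 2) ⊓ Γ.pp (C.x (k + 1)) ≤ _))
        rw [E.dim _ (by omega)] at this
        omega
      · rw [if_neg hkm, upper, if_neg hkm]
        have hz : E.x k ⊓ Γ.pp (C.x Γ.m) = ⊥ := by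
          rw [eq_bot_iff, ← hE k hk]; exact inf_le_inf_left _ (Γ.pp_anti (C.le hk.le))
        have e : Γ.pp (E.x k) ⊓ C.x Γ.m = Γ.pp (E.x k ⊔ Γ.pp (C.x Γ.m)) := by rw [Γ.pp_sup, Γ.pp_pp]
        have h := Submodule.finrank_sup_add_finrank_inf_eq (E.x k) (Γ.pp (C.x Γ.m))
        rw [hz, finrank_bot, E.dim _ (by omega)] at h
        have h' := Γ.finrank_pp_add (C.x Γ.m)
        rw [C.dim _ le_rfl] at h'
        have := Γ.finrank_pp_add (E.x k ⊔ Γ.pp (C.x Γ.m))
        rw [e]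
        omega
    have hle : E'.x (k + 1) ⊓ Γ.pp (C.x (k + 1)) ≤ W := by
      refine le_inf (inf_le_left.trans (ha.upper_eq hk ▸ E'.le_upper k)) fun v hv => ?_
      split_ifs with hkm
      · exact hv.2
      · rw [show k + 1 = Γ.m by omega] at hv
        exact Γ.mem_of_singular C.ti (C.dim _ le_rfl) (E'.ti' _ v hv.1).1 hv.2
    have hWeq : E'.x (k + 1) ⊓ Γ.pp (C.x (k + 1)) = W := eq_of_le_of_finrank_le hle (by
      have : 1 ≤ finrank F ↥(E'.x (k + 1) ⊓ Γ.pp (C.x (k + 1))) :=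
        Nat.one_le_iff_ne_zero.2 fun h0 => hne (finrank_eq_zero.1 h0)
      omega)
    have hnot : ¬ W ≤ E.x k := fun hle' => hne <| eq_bot_iff.2 <| by
      rw [← hE k hk]
      refine le_inf ?_ (inf_le_right.trans (Γ.pp_anti (C.mono k)))
      rw [hWeq]; exact hle'
    refine (sup_eq_of_not_le (by rw [← ha k (by omega) (by omega)]; exact E'.mono k)
      (by rw [E'.dim _ (by omega), E.dim _ (by omega)]) (hWeq ▸ inf_le_left) hnot).symm
  refine Flag.ext' fun i hi => ?_
  by_cases hik : i = k + 1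
  · rw [hik, key E₁ h1 n1, key E₂ h2 n2]
  · rw [h1 i hi hik, h2 i hi hik]

/-- Of a panel with a member opposite to `C` all but one are opposite. -/
theorem eq_of_not_opp {E E₁ E₂ : Γ.Flag} {k : ℕ} (hk : k < Γ.m) (hE : Opp C E) (h1 : Adj E₁ E k)
    (h2 : Adj E₂ E k) (n1 : ¬ Opp C E₁) (n2 : ¬ Opp C E₂) : E₁ = E₂ := by
  have key : ∀ E', Adj E' E k → ¬ Opp C E' → E'.x (k + 1) ⊓ Γ.pp (C.x (k + 1)) ≠ ⊥ := by
    intro E' ha hn e
    refine hn fun i hi => ?_
    by_cases hik : i = k + 1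
    · rw [hik, e]
    · rw [ha i hi hik]; exact hE i hi
  exact eq_of_meet C hk hE.sub h1 h2 (key _ h1 n1) (key _ h2 n2)

/-- Replace the member `k + 1`. -/
theorem exists_upd {k : ℕ} (hk : k < Γ.m) (Y : Submodule F V) (h1 : D.x k ≤ Y) (h2 : Y ≤ D.upper k)
    (hd : finrank F Y = k + 1) (hti : Γ.TI Y) : ∃ E : Γ.Flag, Adj E D k ∧ E.x (k + 1) = Y := by
  refine ⟨⟨fun i => if min i Γ.m = k + 1 then Y else D.x i, fun i => ?_, fun i hi => ?_, ?_,
    fun i hi => ?_⟩, fun i hi hik => ?_, ?_⟩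
  · by_cases a : min i Γ.m = k + 1 <;> by_cases b : min (i + 1) Γ.m = k + 1
    · rw [if_pos a, if_pos b]
    · rw [if_pos a, if_neg b]
      have hu : D.upper k = D.x (k + 2) := if_pos (by omega)
      exact h2.trans (by rw [hu]; exact D.le (by omega))
    · rw [if_neg a, if_pos b]
      exact (D.le (by omega)).trans h1
    · rw [if_neg a, if_neg b]; exact D.mono i
  · by_cases a : min i Γ.m = k + 1
    · rw [if_pos a, hd]; omega
    · rw [if_neg a]; exact D.dim i hi
  · by_cases a : min Γ.m Γ.m = k + 1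
    · rw [if_pos a]; exact hti
    · rw [if_neg a]; exact D.ti
  · simp only [min_eq_right hi, min_self]
    rw [D.top i hi]
  · show (if min i Γ.m = k + 1 then Y else D.x i) = D.x i
    rw [if_neg (by omega)]
  · show (if min (k + 1) Γ.m = k + 1 then Y else D.x (k + 1)) = Y
    rw [if_pos (by omega)]

/-- Every panel has another member; two others below the top. -/
theorem exists_other {k : ℕ} (hk : k < Γ.m) :
    ∃ E, Adj E D k ∧ E ≠ D ∧ (k + 1 < Γ.m → ∃ E', Adj E' D k ∧ E' ≠ D ∧ E' ≠ E) := by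
  set z := D.x k with hz
  have hzd : finrank F z = k := D.dim k (by omega)
  obtain ⟨y, hy, hyz⟩ : ∃ y ∈ D.x (k + 1), y ∉ z := by
    by_contra hc
    have := finrank_mono (fun v hv => not_not.1 fun h => hc ⟨v, hv, h⟩ : D.x (k + 1) ≤ z)
    rw [D.dim _ (by omega)] at this; omega
  have mk : ∀ v, v ∈ D.upper k → v ∉ D.x (k + 1) → Γ.q v = 0 → v ∈ Γ.pp z →
      ∃ E, Adj E D k ∧ E.x (k + 1) = z ⊔ span F {v} ∧ E ≠ D := by
    intro v hv hvY hq hvp
    have hvz : v ∉ z := fun h => hvY (D.mono k h)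
    obtain ⟨E, ha, he⟩ := D.exists_upd hk (z ⊔ span F {v}) le_sup_left
      (sup_le ((D.mono k).trans (D.le_upper k)) ((span_singleton_le_iff_mem _ _).2 hv))
      (by
        have := Submodule.finrank_sup_add_finrank_inf_eq z (span F {v})
        rw [disjoint_iff.1 (disjoint_span_singleton_of_notMem hvz), finrank_bot, hzd,
          finrank_span_singleton (fun h : v = 0 => hvz (by rw [h]; exact z.zero_mem))] at this
        omega)
      (TI.sup Γ (D.ti' k) (Γ.TI_span_singleton hq) ((span_singleton_le_iff_mem _ _).2 hvp))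
    refine ⟨E, ha, he, fun h => hvY ?_⟩
    rw [← h, he]; exact mem_sup_right (mem_span_singleton_self v)
  by_cases hkm : k + 1 < Γ.m
  · have hu : D.upper k = D.x (k + 2) := if_pos hkm
    obtain ⟨b, hb, hbY⟩ : ∃ b ∈ D.x (k + 2), b ∉ D.x (k + 1) := by
      by_contra hc
      have := finrank_mono (fun v hv => not_not.1 fun h => hc ⟨v, hv, h⟩ : D.x (k + 2) ≤ D.x (k + 1))
      rw [D.dim _ (by omega), D.dim _ (by omega)] at this; omega
    have hby : b + y ∈ D.x (k + 2) := add_mem hb (D.mono (k + 1) hy)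
    have hperp : ∀ v ∈ D.x (k + 2), v ∈ Γ.pp z := fun v hv =>
      Γ.pp_anti (D.le (by omega)) ((D.ti' (k + 2)).le_pp Γ hv)
    obtain ⟨E, ha, he, hne⟩ := mk b (hu ▸ hb) hbY (D.ti' _ b hb).1 (hperp _ hb)
    obtain ⟨E', ha', he', hne'⟩ := mk (b + y) (hu ▸ hby) (fun h => hbY (by simpa using sub_mem h hy))
      (D.ti' _ _ hby).1 (hperp _ hby)
    refine ⟨E, ha, hne, fun _ => ⟨E', ha', hne', fun h => ?_⟩⟩
    have e : b + y ∈ z ⊔ span F {b} := by
      rw [← he, ← h, he']; exact mem_sup_right (mem_span_singleton_self _)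
    have hyb : y ∈ z ⊔ span F {b} := by
      simpa using sub_mem e (mem_sup_right (mem_span_singleton_self b))
    obtain ⟨a, ha2, w, hw, hsum⟩ := mem_sup.1 hyb
    obtain ⟨c, rfl⟩ := mem_span_singleton.1 hw
    by_cases hc : c = 0
    · exact hyz (by rw [← hsum, hc, zero_smul, add_zero]; exact ha2)
    · refine hbY ?_
      have := sub_mem hy (D.mono k ha2)
      rw [← hsum, add_sub_cancel_left] at this
      simpa [smul_smul, inv_mul_cancel₀ hc] using (D.x (k + 1)).smul_mem c⁻¹ this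
  · have hk' : k + 1 = Γ.m := by omega
    have hu : D.upper k = Γ.pp z := if_neg hkm
    obtain ⟨v, hv, hvy⟩ : ∃ v ∈ Γ.pp z, Γ.B v y ≠ 0 := by
      by_contra hc
      apply hyz
      rw [← Γ.pp_pp z]
      exact fun v hv => not_not.1 fun h => hc ⟨v, hv, h⟩
    obtain ⟨a, ha⟩ := Γ.hT v
    set c := -a * (Γ.B v y)⁻¹ with hc
    have hqy : Γ.q y = 0 := (D.ti' _ y hy).1
    have hq : Γ.q (v + c • y) = 0 := by
      rw [Γ.q_add, Γ.q_smul c y hqy, map_smul, smul_eq_mul, hc, mul_assoc, inv_mul_cancel₀ hvy,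
        mul_one, map_neg, ha, add_zero, add_neg_cancel]
    have hyp : y ∈ Γ.pp z := Γ.pp_anti (D.mono k) ((D.ti' (k + 1)).le_pp Γ hy)
    have hmem : v + c • y ∈ Γ.pp z := add_mem hv ((Γ.pp z).smul_mem c hyp)
    have hvY : v + c • y ∉ D.x (k + 1) := fun h => hvy <| by
      have h1 := (D.ti' _ _ h).2 y hy
      rw [map_add, LinearMap.add_apply, LinearMap.map_smulₛₗ, LinearMap.smul_apply,
        Γ.q_self y hqy, smul_zero, add_zero] at h1
      exact h1
    obtain ⟨E, ha', -, hne⟩ := mk _ (hu ▸ hmem) hvY hq hmem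
    exact ⟨E, ha', hne, fun h => absurd h hkm⟩

/-- Some member of the last panel meets `C` there. -/
theorem exists_meet {k : ℕ} (hk : k + 1 = Γ.m) (hD : Sub C D) :
    ∃ E, Adj E D k ∧ E.x (k + 1) ⊓ Γ.pp (C.x (k + 1)) ≠ ⊥ := by
  obtain ⟨v, hv, hv0⟩ : ∃ v ∈ C.x Γ.m ⊓ Γ.pp (D.x k), v ≠ 0 := by
    apply (Submodule.ne_bot_iff _).1
    intro e
    have h := Submodule.finrank_sup_add_finrank_inf_eq (C.x Γ.m) (Γ.pp (D.x k))
    rw [e, finrank_bot, C.dim _ le_rfl] at h
    have := Γ.finrank_pp_add (D.x k)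
    rw [D.dim _ (by omega)] at this
    have := Submodule.finrank_le (C.x Γ.m ⊔ Γ.pp (D.x k))
    omega
  have hvz : v ∉ D.x k := fun h => hv0 <| (mem_bot F).1 <| by
    rw [← hD k (by omega)]
    exact ⟨h, Γ.pp_anti (C.le (by omega)) (C.ti.le_pp Γ hv.1)⟩
  obtain ⟨E, ha, he⟩ := D.exists_upd (k := k) (by omega) (D.x k ⊔ span F {v}) le_sup_left
    (by
      rw [upper, if_neg (by omega)]
      exact sup_le ((D.ti' k).le_pp Γ) ((span_singleton_le_iff_mem _ _).2 hv.2))
    (by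
      have := Submodule.finrank_sup_add_finrank_inf_eq (D.x k) (span F {v})
      rw [disjoint_iff.1 (disjoint_span_singleton_of_notMem hvz), finrank_bot, D.dim k (by omega),
        finrank_span_singleton hv0] at this
      omega)
    (TI.sup Γ (D.ti' k) (Γ.TI_span_singleton (C.ti v hv.1).1) ((span_singleton_le_iff_mem _ _).2 hv.2))
  refine ⟨E, ha, fun e => hv0 ((mem_bot F).1 ?_)⟩
  rw [← e, he, hk]
  exact ⟨mem_sup_right (mem_span_singleton_self v), C.ti.le_pp Γ hv.1⟩

/-- With three flags in the last panel of `C`, something is opposite to two of them. -/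
theorem exists_opp_both {C C' C'' E : Γ.Flag} {k : ℕ} (hk : k + 1 = Γ.m) (h1 : Adj C' C k)
    (h2 : Adj C'' C k) (n12 : C'' ≠ C') (n2 : C'' ≠ C) (hE : Opp C E) :
    ∃ E', Opp C E' ∧ Opp C' E' := by
  have hs : ∀ X, Adj X C k → Sub X E := fun X hX i hi => by
    rw [hX i hi.le (by omega)]; exact hE i hi.le
  obtain ⟨E', ha, hm⟩ := exists_meet C'' E hk (hs _ h2)
  have hs' : ∀ X, Adj X C k → Sub X E' := fun X hX i hi => by
    rw [ha i hi.le (by omega)]; exact hs X hX i hi
  have key : ∀ X, Adj X C k → C'' ≠ X → Opp X E' := by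
    intro X hX hne
    refine (hs' X hX).opp (not_not.1 fun hXE => ?_)
    have hsub : Sub E' C := fun i hi => inf_pp_comm hi.le (hs' C (Adj.refl C k) i hi)
    have flip : ∀ Y : Γ.Flag, E'.x (k + 1) ⊓ Γ.pp (Y.x (k + 1)) ≠ ⊥ →
        Y.x (k + 1) ⊓ Γ.pp (E'.x (k + 1)) ≠ ⊥ := fun Y h e => h (inf_pp_comm (by omega) e)
    exact hne (eq_of_meet E' (by omega) hsub h2 hX (flip _ hm) (flip _ (by rw [hk]; exact hXE)))
  exact ⟨E', key C (Adj.refl C k) n2, key C' h1 n12⟩

/-- A bigger anisotropic part or a kernel of `T` makes the last panels thick. -/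
theorem exists_third (hbig : 2 * Γ.m < finrank F V ∨ ∃ c : F, c ≠ 0 ∧ Γ.T c = 0) {k : ℕ}
    (hk : k + 1 = Γ.m) {E : Γ.Flag} (hE : Adj E D k) (hne : E ≠ D) :
    ∃ E', Adj E' D k ∧ E' ≠ D ∧ E' ≠ E := by
  classical
  set z := D.x k with hz
  have hzd : finrank F z = k := D.dim k (by omega)
  obtain ⟨y, hy, hyz⟩ : ∃ y ∈ D.x (k + 1), y ∉ z := by
    by_contra hc
    have := finrank_mono (fun v hv => not_not.1 fun h => hc ⟨v, hv, h⟩ : D.x (k + 1) ≤ z)
    rw [D.dim _ (by omega)] at this; omega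
  obtain ⟨v, hv, hvz⟩ : ∃ v ∈ E.x (k + 1), v ∉ D.x (k + 1) := by
    by_contra hc
    exact hE.ne hne (eq_of_le_of_finrank_le (fun v hv => not_not.1 fun h => hc ⟨v, hv, h⟩)
      (by rw [D.dim _ (by omega), E.dim _ (by omega)]))
  have hzE : z ≤ E.x (k + 1) := by rw [hz, ← hE k (by omega) (by omega)]; exact E.mono k
  have hvp : v ∈ Γ.pp z := Γ.pp_anti hzE ((E.ti' _).le_pp Γ hv)
  have hyp : y ∈ Γ.pp z := Γ.pp_anti (D.mono k) ((D.ti' (k + 1)).le_pp Γ hy)
  have hqy : Γ.q y = 0 := (D.ti' _ y hy).1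
  have hqv : Γ.q v = 0 := (E.ti' _ v hv).1
  have hvy : Γ.B v y ≠ 0 := fun e => hvz <| by
    rw [hk]
    refine Γ.mem_of_singular D.ti (D.dim _ le_rfl) hqv fun u hu => ?_
    have hy' : y ∈ D.x Γ.m := hk ▸ hy
    have hs : D.x Γ.m = z ⊔ span F {y} := (eq_of_le_of_finrank_le
      (sup_le (D.le (show k ≤ Γ.m by omega)) ((span_singleton_le_iff_mem _ _).2 hy')) (by
        have : finrank F ↥(D.x k) < finrank F ↥(D.x k ⊔ span F {y}) := finrank_lt_finrank_of_lt <|
          lt_of_le_of_ne le_sup_left fun h => hyz (by rw [hz, h]; exact mem_sup_right (mem_span_singleton_self y))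
        rw [D.dim k (by omega)] at this
        rw [D.dim _ le_rfl]; omega)).symm
    rw [hs] at hu
    obtain ⟨a, ha, b, hb, rfl⟩ := mem_sup.1 hu
    obtain ⟨c, rfl⟩ := mem_span_singleton.1 hb
    simp [hvp a ha, Γ.refl v y e]
  obtain ⟨u, hu, huE, hquy, huv⟩ : ∃ u ∈ Γ.pp z, u ∉ E.x (k + 1) ∧ Γ.q u = 0 ∧ Γ.B u y ≠ 0 := by
    rcases hbig with h | ⟨c, hc, hTc⟩
    · obtain ⟨w, hw, hwn⟩ : ∃ w ∈ Γ.pp (z ⊔ span F {y} ⊔ span F {v}),
          w ∉ z ⊔ span F {y} ⊔ span F {v} := by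
        by_contra hc'
        have h1 : Γ.pp (z ⊔ span F {y} ⊔ span F {v}) ≤ z := fun w hw => by
          obtain ⟨a, ha, b, hb, rfl⟩ := mem_sup.1 (not_not.1 fun h => hc' ⟨w, hw, h⟩ :
            w ∈ z ⊔ span F {y} ⊔ span F {v})
          obtain ⟨a', ha', y', hy', rfl⟩ := mem_sup.1 ha
          obtain ⟨α, rfl⟩ := mem_span_singleton.1 hy'
          obtain ⟨β, rfl⟩ := mem_span_singleton.1 hb
          have e1 := hw y (mem_sup_left (mem_sup_right (mem_span_singleton_self y)))
          have e2 := hw v (mem_sup_right (mem_span_singleton_self v))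
          simp [Γ.q_self y hqy, Γ.refl a' y (hyp a' ha')] at e1
          simp [Γ.q_self v hqv, Γ.refl a' v (hvp a' ha'), hvy] at e2
          rcases e1 with e1 | e1
          · simpa [e1, e2] using ha'
          · exact absurd (Γ.refl y v e1) hvy
        have h1' := finrank_mono h1
        have h2 := Γ.finrank_pp_add (z ⊔ span F {y} ⊔ span F {v})
        have h3 := Submodule.finrank_add_le_finrank_add_finrank z (span F {y})
        have h4 := Submodule.finrank_add_le_finrank_add_finrank (z ⊔ span F {y}) (span F {v})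
        have h5 : finrank F (span F {y}) ≤ 1 := (finrank_span_singleton (K := F)
          (fun e : y = 0 => hvy (by rw [e, map_zero]))).le
        have h6 : finrank F (span F {v}) ≤ 1 := (finrank_span_singleton (K := F)
          (fun e : v = 0 => hvy (by rw [e, map_zero, LinearMap.zero_apply]))).le
        omega
      have hwz : w ∈ Γ.pp z := Γ.pp_anti (le_sup_left.trans le_sup_left) hw
      have hwy : Γ.B w y = 0 := Γ.refl y w (hw y (mem_sup_left (mem_sup_right (mem_span_singleton_self y))))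
      obtain ⟨a, ha⟩ := Γ.hT (v + w)
      have hb : Γ.B (v + w) y = Γ.B v y := by simp [hwy]
      set c := -a * (Γ.B v y)⁻¹ with hcd
      have hq : Γ.q (v + w + c • y) = 0 := by
        rw [Γ.q_add, Γ.q_smul c y hqy, map_smul, smul_eq_mul, hb, hcd, mul_assoc, inv_mul_cancel₀ hvy,
          mul_one, map_neg, ha, add_zero, add_neg_cancel]
      refine ⟨v + w + c • y, add_mem (add_mem hvp hwz) ((Γ.pp z).smul_mem c hyp), fun h => hwn ?_, hq,
        by simpa [hwy, Γ.q_self y hqy] using hvy⟩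
      have h' : v + w + c • y ∈ z ⊔ span F {y} ⊔ span F {v} := by
        refine (?_ : E.x (k + 1) ≤ _) h
        rw [← (sup_eq_of_not_le hzE (by rw [E.dim _ (by omega)]; omega)
          ((span_singleton_le_iff_mem _ _).2 hv) (fun h' => hvz (D.mono k
            ((span_singleton_le_iff_mem _ _).1 h'))))]
        exact sup_le (le_sup_left.trans le_sup_left) le_sup_right
      have h2 := sub_mem (sub_mem h' (mem_sup_right (mem_span_singleton_self v)))
        (mem_sup_left (mem_sup_right (Submodule.smul_mem _ c (mem_span_singleton_self y))))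
      rwa [show v + w + c • y - v - c • y = w by abel] at h2
    · have hcv : c * (Γ.B v y)⁻¹ ≠ 0 := mul_ne_zero hc (inv_ne_zero hvy)
      refine ⟨v + (c * (Γ.B v y)⁻¹) • y, add_mem hvp ((Γ.pp z).smul_mem _ hyp), fun h => ?_, ?_, ?_⟩
      · have hyE : y ∈ E.x (k + 1) := by
          have := (E.x (k + 1)).smul_mem (c * (Γ.B v y)⁻¹)⁻¹ (sub_mem h hv)
          rwa [add_sub_cancel_left, smul_smul, inv_mul_cancel₀ hcv, one_smul] at this
        exact hvy ((E.ti' _ v hv).2 y hyE)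
      · rw [Γ.q_add, Γ.q_smul _ y hqy, map_smul, smul_eq_mul, hqv, mul_assoc, inv_mul_cancel₀ hvy,
          mul_one, hTc, add_zero, add_zero]
      · simpa [Γ.q_self y hqy] using hvy
  have huD : u ∉ D.x (k + 1) := fun h => huv ((D.ti' _ u h).2 y hy)
  have huz : u ∉ z := fun h => huD (D.mono k h)
  obtain ⟨E', ha, he⟩ := D.exists_upd (k := k) (by omega) (z ⊔ span F {u}) le_sup_left
    (by
      rw [upper, if_neg (by omega)]
      exact sup_le ((D.ti' k).le_pp Γ) ((span_singleton_le_iff_mem _ _).2 hu))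
    (by
      have := Submodule.finrank_sup_add_finrank_inf_eq z (span F {u})
      rw [disjoint_iff.1 (disjoint_span_singleton_of_notMem huz), finrank_bot, hzd,
        finrank_span_singleton (fun e : u = 0 => huz (by rw [e]; exact z.zero_mem))] at this
      omega)
    (TI.sup Γ (D.ti' k) (Γ.TI_span_singleton hquy) ((span_singleton_le_iff_mem _ _).2 hu))
  have hum : u ∈ E'.x (k + 1) := by rw [he]; exact mem_sup_right (mem_span_singleton_self u)
  exact ⟨E', ha, fun e => huD (e ▸ hum), fun e => huE (e ▸ hum)⟩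

theorem exists_opp : ∃ E, Opp C E := by
  have : ∀ n, ∀ E : Γ.Flag, μ C E = n → ∃ E', Opp C E' := by
    intro n
    induction n using Nat.strong_induction_on with
    | _ n ih =>
      intro E hn
      by_cases h : Opp C E
      · exact ⟨E, h⟩
      · obtain ⟨k, hk, hs⟩ := exists_star C E h
        obtain ⟨E', ha, hne, -⟩ := E.exists_other hk
        exact ih _ (hn ▸ μ_lt C E hk hs ha hne) E' rfl
  exact this _ C rfl

end Flag

end Geo

end CfsgLib.ChamberSt
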