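import Cfsg.Agent.ChamberSt.Frame

/-!
# The isometries unipotent on a flag

They form a `p`-group acting simply transitively on the opposite flags.
-/

set_option autoImplicit false
set_option linter.unusedSectionVars false

namespace CfsgLib.ChamberSt.Geo

open Module Submodule CfsgLib.ChamberSt.Geo.Flag

variable {F V : Type*} [Field F] [AddCommGroup V] [Module F V] (Γ : Geo F V) [FiniteDimensional F V]

/-- The isometries. -/
def isom : Subgroup (V ≃ₗ[F] V) where
  carrier := {g | (∀ u v, Γ.B (g u) (g v) = Γ.B u v) ∧ ∀ v, Γ.q (g v) = Γ.q v}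
  mul_mem' {g h} hg hh :=
    ⟨fun u v => (hg.1 _ _).trans (hh.1 u v), fun v => (hg.2 _).trans (hh.2 v)⟩
  one_mem' := ⟨fun _ _ => rfl, fun _ => rfl⟩
  inv_mem' {g} hg :=
    ⟨fun u v => by
      have := hg.1 (g.symm u) (g.symm v)
      rw [g.apply_symm_apply, g.apply_symm_apply] at this
      exact this.symm,
    fun v => by
      have := hg.2 (g.symm v)
      rw [g.apply_symm_apply] at this
      exact this.symm⟩

theorem map_pp {g : V ≃ₗ[F] V} (hg : g ∈ Γ.isom) (X : Submodule F V) :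
    (Γ.pp X).map (g : V →ₗ[F] V) = Γ.pp (X.map (g : V →ₗ[F] V)) := by
  ext v
  constructor
  · rintro ⟨w, hw, rfl⟩ u ⟨x, hx, rfl⟩
    exact (hg.1 x w).trans (hw x hx)
  · intro hv
    refine ⟨g.symm v, fun x hx => ?_, g.apply_symm_apply v⟩
    rw [← hg.1 x, g.apply_symm_apply]
    exact hv _ ⟨x, hx, rfl⟩

namespace Flag

variable {Γ}

/-- The image of a flag. -/
def move (g : Γ.isom) (C : Γ.Flag) : Γ.Flag where
  x i := (C.x i).map ((g : V ≃ₗ[F] V) : V →ₗ[F] V)
  mono i := Submodule.map_mono (C.mono i)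
  dim i hi := by rw [LinearEquiv.finrank_map_eq]; exact C.dim i hi
  ti := by
    rintro _ ⟨u, hu, rfl⟩
    refine ⟨(g.2.2 u).trans (C.ti u hu).1, ?_⟩
    rintro _ ⟨v, hv, rfl⟩
    exact (g.2.1 u v).trans ((C.ti u hu).2 v hv)
  top i hi := by rw [C.top i hi]

theorem move_one (C : Γ.Flag) : move 1 C = C :=
  Flag.ext' fun i _ => Submodule.map_id (C.x i)

theorem move_mul (g h : Γ.isom) (C : Γ.Flag) : move (g * h) C = move g (move h C) :=
  Flag.ext' fun i _ => Submodule.map_comp ((h : V ≃ₗ[F] V) : V →ₗ[F] V)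
    ((g : V ≃ₗ[F] V) : V →ₗ[F] V) (C.x i)

instance : MulAction Γ.isom Γ.Flag where
  smul := move
  one_smul := move_one
  mul_smul := move_mul

theorem smul_x (g : Γ.isom) (C : Γ.Flag) (i : ℕ) :
    (g • C).x i = (C.x i).map ((g : V ≃ₗ[F] V) : V →ₗ[F] V) := rfl

theorem mem_smul (g : Γ.isom) {C : Γ.Flag} {i : ℕ} {v : V} (h : v ∈ C.x i) :
    (g : V ≃ₗ[F] V) v ∈ (g • C).x i := ⟨v, h, rfl⟩

theorem Adj.smul (g : Γ.isom) {C D : Γ.Flag} {k : ℕ} (h : Adj C D k) : Adj (g • C) (g • D) k :=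
  fun i hi hk => by rw [smul_x, smul_x, h i hi hk]

theorem Opp.smul (g : Γ.isom) {C D : Γ.Flag} (h : Opp C D) : Opp (g • C) (g • D) := fun i hi => by
  rw [smul_x, smul_x, ← Γ.map_pp g.2,
    ← Submodule.map_inf _ (g : V ≃ₗ[F] V).injective, h i hi, Submodule.map_bot]

variable (C : Γ.Flag)

/-- The series `0 = x 0 ≤ … ≤ x m ≤ pp (x m) ≤ … ≤ pp (x 0)`. -/
def ser (t : ℕ) : Submodule F V := if t ≤ Γ.m then C.x t else Γ.pp (C.x (2 * Γ.m + 1 - t))

theorem ser_mono (t : ℕ) : C.ser t ≤ C.ser (t + 1) := by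
  unfold ser
  split_ifs with h1 h2 h2
  · exact C.mono t
  · exact le_trans ((C.le h1).trans (C.ti.le_pp Γ)) (Γ.pp_anti (C.le (by omega)))
  · omega
  · exact Γ.pp_anti (C.le (by omega))

theorem ser_top : C.ser (2 * Γ.m + 1) = ⊤ := by
  rw [ser, if_neg (by omega), Nat.sub_self, C.x_zero, Γ.pp_bot]

theorem ser_zero : C.ser 0 = ⊥ := by rw [ser, if_pos (Nat.zero_le _), C.x_zero]

theorem apply_mem_ser {g : V ≃ₗ[F] V} (hg : ∀ t, ∀ v ∈ C.ser (t + 1), g v - v ∈ C.ser t)
    (t : ℕ) {v : V} (hv : v ∈ C.ser t) : g v ∈ C.ser t := by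
  rcases Nat.eq_zero_or_pos t with rfl | ht
  · rw [ser_zero, mem_bot] at hv ⊢
    rw [hv, map_zero]
  · obtain ⟨s, rfl⟩ := Nat.exists_eq_succ_of_ne_zero ht.ne'
    simpa using add_mem (C.ser_mono s (hg s v hv)) hv

/-- The isometries unipotent on the series. -/
def unip : Subgroup Γ.isom where
  carrier := {g | ∀ t, ∀ v ∈ C.ser (t + 1), (g : V ≃ₗ[F] V) v - v ∈ C.ser t}
  mul_mem' {g h} hg hh t v hv := by
    have h1 := hg t _ (apply_mem_ser C hh (t + 1) hv)
    have h2 := hh t v hv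
    have := add_mem h1 h2
    simpa [LinearEquiv.mul_apply] using this
  one_mem' t v _ := by simp
  inv_mem' {g} hg t v hv := by
    have hsurj : ∀ s, ∀ w ∈ C.ser s, (g : V ≃ₗ[F] V).symm w ∈ C.ser s := fun s w hw => by
      have he : (C.ser s).map ((g : V ≃ₗ[F] V) : V →ₗ[F] V) = C.ser s :=
        eq_of_le_of_finrank_le (by rintro _ ⟨u, hu, rfl⟩; exact apply_mem_ser C hg s hu)
          (by rw [LinearEquiv.finrank_map_eq])
      rw [← he] at hw
      obtain ⟨u, hu, rfl⟩ := hw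
      simpa using hu
    have h1 := (C.ser t).neg_mem (hg t _ (hsurj (t + 1) v hv))
    simpa using h1

theorem unip_smul {g : Γ.isom} (hg : g ∈ C.unip) : g • C = C := Flag.ext' fun i hi => by
  refine eq_of_le_of_finrank_le ?_ (by rw [C.dim i hi, (g • C).dim i hi])
  rintro _ ⟨v, hv, rfl⟩
  have := apply_mem_ser C hg i (v := v) (by rwa [ser, if_pos hi])
  rwa [ser, if_pos hi] at this

theorem isPGroup_unip (p : ℕ) [Fact p.Prime] [CharP F p] : IsPGroup p C.unip := by
  rintro ⟨g, hg⟩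
  rcases subsingleton_or_nontrivial V with h | h
  · refine ⟨0, Subtype.ext (Subtype.ext ?_)⟩
    ext v
    exact Subsingleton.elim _ _
  have : CharP (Module.End F V) p :=
    charP_of_injective_algebraMap (algebraMap F (Module.End F V)).injective p
  obtain ⟨k, hk⟩ : ∃ k, 2 * Γ.m + 1 ≤ p ^ k :=
    ⟨2 * Γ.m + 1, (Nat.lt_pow_self (Fact.out : p.Prime).one_lt).le⟩
  let G : Module.End F V := ((g : V ≃ₗ[F] V) : V →ₗ[F] V)
  have hN : ∀ j t, ∀ v ∈ C.ser t, ((G - 1) ^ j) v ∈ C.ser (t - j) := by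
    intro j
    induction j with
    | zero => intro t v hv; simpa using hv
    | succ j ih =>
      intro t v hv
      rw [pow_succ, Module.End.mul_apply]
      rcases Nat.eq_zero_or_pos t with rfl | ht
      · rw [ser_zero, mem_bot] at hv
        simp [hv]
      · obtain ⟨s, rfl⟩ := Nat.exists_eq_succ_of_ne_zero ht.ne'
        rw [show s + 1 - (j + 1) = s - j by omega]
        exact ih s _ (hg s v hv)
  have h0 : (G - 1) ^ (p ^ k) = 0 := LinearMap.ext fun v => by
    have := hN (p ^ k) (2 * Γ.m + 1) v (by rw [ser_top]; trivial)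
    rwa [show 2 * Γ.m + 1 - p ^ k = 0 by omega, ser_zero, mem_bot] at this
  rw [sub_pow_char_pow_of_commute p k (Commute.one_right G), one_pow, sub_eq_zero] at h0
  refine ⟨k, Subtype.ext (Subtype.ext ?_)⟩
  have hpow : ∀ n, (((g ^ n : Γ.isom) : V ≃ₗ[F] V) : V →ₗ[F] V) = G ^ n := by
    intro n
    induction n with
    | zero => rfl
    | succ n ih =>
      rw [pow_succ, pow_succ, ← ih]
      rfl
  apply LinearEquiv.toLinearMap_injective
  exact (hpow _).trans h0

theorem sub_mem_pp {g : Γ.isom} {i : ℕ} (hgC : (g • C).x (i + 1) = C.x (i + 1))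
    (hg : ∀ u ∈ C.x (i + 1), (g : V ≃ₗ[F] V) u - u ∈ C.x i) {v : V} (hv : v ∈ Γ.pp (C.x i)) :
    (g : V ≃ₗ[F] V) v - v ∈ Γ.pp (C.x (i + 1)) := by
  intro u hu
  rw [← hgC] at hu
  obtain ⟨u₀, hu₀, rfl⟩ := hu
  rw [map_sub]
  have h1 := hv _ (hg u₀ hu₀)
  simp only [map_sub, LinearMap.sub_apply] at h1
  rw [LinearEquiv.coe_coe, g.2.1 u₀ v]
  rw [← neg_sub, neg_eq_zero]
  simpa using h1

theorem mem_unip_iff {g : Γ.isom} : g ∈ C.unip ↔ g • C = C ∧
    (∀ i < Γ.m, ∀ v ∈ C.x (i + 1), (g : V ≃ₗ[F] V) v - v ∈ C.x i) ∧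
    ∀ v ∈ Γ.pp (C.x Γ.m), (g : V ≃ₗ[F] V) v - v ∈ C.x Γ.m := by
  constructor
  · refine fun hg => ⟨C.unip_smul hg, fun i hi v hv => ?_, fun v hv => ?_⟩
    · have := hg i v (by rwa [ser, if_pos (show i + 1 ≤ Γ.m from hi)])
      rwa [ser, if_pos hi.le] at this
    · have := hg Γ.m v (by rw [ser, if_neg (by omega)]; convert hv using 3; omega)
      rwa [ser, if_pos le_rfl] at this
  · rintro ⟨hC, h1, h2⟩ t v hv
    rcases lt_trichotomy t Γ.m with h | h | h
    · rw [ser, if_pos (show t + 1 ≤ Γ.m from h)] at hv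
      rw [ser, if_pos h.le]
      exact h1 t h v hv
    · subst h
      rw [ser, if_neg (by omega), show 2 * Γ.m + 1 - (Γ.m + 1) = Γ.m by omega] at hv
      rw [ser, if_pos le_rfl]
      exact h2 v hv
    · rw [ser, if_neg (by omega)] at hv ⊢
      by_cases h3 : 2 * Γ.m + 1 ≤ t
      · rw [show 2 * Γ.m + 1 - t = 0 by omega, C.x_zero, Γ.pp_bot]; trivial
      · have e : 2 * Γ.m + 1 - t = 2 * Γ.m + 1 - (t + 1) + 1 := by omega
        rw [e]
        refine sub_mem_pp C (by rw [hC]) (fun u hu => h1 _ (by omega) u hu) hv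

end Flag

namespace Frame

variable {Γ} (φ : Γ.Frame)

/-- The partner. -/
def flip (a : Fin Γ.m × Bool) : Fin Γ.m × Bool := (a.1, !a.2)

/-- Coordinates. -/
noncomputable def co (a : Fin Γ.m × Bool) : V →ₗ[F] F :=
  (Γ.B (φ.vec (flip a)) (φ.vec a))⁻¹ • Γ.B (φ.vec (flip a))

/-- The hyperbolic part. -/
noncomputable def hyp (φ' : Γ.Frame) : V →ₗ[F] V := ∑ a, (φ.co a).smulRight (φ'.vec a)

/-- The orthogonal projection. -/
noncomputable def proj : V →ₗ[F] V := LinearMap.id - φ.hyp φ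

theorem hyp_apply (φ' : Γ.Frame) (v : V) : φ.hyp φ' v = ∑ a, φ.co a v • φ'.vec a := by
  simp [hyp]

theorem flip_ne_zero (a : Fin Γ.m × Bool) : Γ.B (φ.vec (flip a)) (φ.vec a) ≠ 0 := by
  have := φ.pair_ne_zero (flip a)
  simpa [flip] using this

theorem co_vec (a b : Fin Γ.m × Bool) : φ.co a (φ.vec b) = if b = a then 1 else 0 := by
  rw [co, LinearMap.smul_apply, smul_eq_mul]
  split_ifs with h
  · subst h; exact inv_mul_cancel₀ (φ.flip_ne_zero b)
  · rw [φ.orth (flip a) b (by simpa [flip] using h), mul_zero]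

theorem B_proj (a : Fin Γ.m × Bool) (v : V) : Γ.B (φ.vec a) (φ.proj v) = 0 := by
  simp only [proj, LinearMap.sub_apply, LinearMap.id_apply, hyp_apply, map_sub, map_sum, map_smul,
    smul_eq_mul]
  rw [Finset.sum_eq_single (flip a) (fun b _ hb => by rw [φ.orth _ _ (by simpa [flip] using hb),
    mul_zero]) (by simp), sub_eq_zero]
  simp only [co, LinearMap.smul_apply, smul_eq_mul, show flip (flip a) = a by simp [flip]]
  rw [mul_right_comm, inv_mul_cancel₀, one_mul]
  simpa [flip] using φ.pair_ne_zero a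

theorem hyp_add_proj (v : V) : φ.hyp φ v + φ.proj v = v := by simp [proj]

theorem B_proj' (φ' : Γ.Frame) (v w : V) : Γ.B (φ.hyp φ' v) (φ'.proj w) = 0 := by
  simp [hyp_apply, B_proj]

theorem B_gram (φ' : Γ.Frame) (a b : Fin Γ.m × Bool) :
    Γ.B (φ'.vec a) (φ'.vec b) = Γ.B (φ.vec a) (φ.vec b) := by
  by_cases h : b = (a.1, !a.2)
  · subst h
    obtain ⟨i, _ | _⟩ := a
    · simp [φ.norm, φ'.norm]
    · simp [Γ.herm (φ.vec (i, false)), Γ.herm (φ'.vec (i, false)), φ.norm, φ'.norm]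
  · rw [φ.orth _ _ h, φ'.orth _ _ h]

theorem B_hyp (φ' : Γ.Frame) (u v : V) : Γ.B (φ.hyp φ' u) (φ.hyp φ' v) = Γ.B (φ.hyp φ u) (φ.hyp φ v) := by
  simp only [hyp_apply, map_sum, LinearMap.sum_apply, LinearMap.map_smulₛₗ, LinearMap.smul_apply,
    φ.B_gram φ']

theorem q_hyp (φ' : Γ.Frame) (v : V) : Γ.q (φ.hyp φ' v) = Γ.q (φ.hyp φ v) := by
  classical
  simp only [hyp_apply]
  induction (Finset.univ : Finset (Fin Γ.m × Bool)) using Finset.induction_on with
  | empty => simp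
  | insert a s ha ih =>
    rw [Finset.sum_insert ha, Finset.sum_insert ha, Γ.q_add, Γ.q_add, ih,
      Γ.q_smul _ _ (φ'.sing a), Γ.q_smul _ _ (φ.sing a)]
    simp only [map_sum, map_smul, LinearMap.map_smulₛₗ, LinearMap.smul_apply, φ.B_gram φ']

theorem base_x {i : ℕ} : φ.base.x i = φ.member (diag fun _ => false) i := rfl

/-- Rescale the first half. -/
noncomputable def scale (c : Fin Γ.m → F) (hc : ∀ i, c i ≠ 0) : Γ.Frame where
  vec a := if a.2 then (Γ.σ (c a.1))⁻¹ • φ.vec a else c a.1 • φ.vec a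
  sing a := by split_ifs <;> exact Γ.q_smul _ _ (φ.sing a)
  orth a b hab := by
    split_ifs <;> simp [φ.orth a b hab]
  norm i := by
    have h : Γ.σ (c i) ≠ 0 := by simpa using hc i
    simp [φ.norm, inv_mul_cancel₀ h]

theorem flag_scale (c : Fin Γ.m → F) (hc : ∀ i, c i ≠ 0) (w : Γ.SPerm) :
    (φ.scale c hc).flag w = φ.flag w := by
  refine Flag.ext' fun i hi => eq_of_le_of_finrank_le (member_le _ fun j hj => ?_)
    (by rw [((φ.scale c hc).flag w).dim i hi, (φ.flag w).dim i hi])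
  show (if w.2 j then _ else _) ∈ _
  split_ifs <;> exact (φ.member w i).smul_mem _ (φ.pvec_mem w hj)

/-- Flags opposite to `C` differ by an element of its unipotent group. -/
theorem exists_unip {C E E' : Γ.Flag} (h : Opp C E) (h' : Opp C E') :
    ∃ g ∈ C.unip, g • E = E' := by
  obtain ⟨φ, hC, hE⟩ := exists_frame h
  obtain ⟨φ₁, hC₁, hE₁⟩ := exists_frame h'
  have hc : ∀ i : Fin Γ.m, ∃ c : F, c ≠ 0 ∧ c • φ₁.vec (i, false) - φ.vec (i, false) ∈ C.x i := by
    intro i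
    have h1 : φ₁.vec (i, false) ∈ C.x (i + 1) := hC₁ ▸ φ₁.pvec_mem _ (Nat.lt_succ_self _)
    have h2 : φ.vec (i, false) ∈ C.x (i + 1) := hC ▸ φ.pvec_mem _ (Nat.lt_succ_self _)
    have hn : φ₁.vec (i, false) ∉ C.x i := by
      intro hm
      rw [← hC₁] at hm
      have := φ₁.linearIndependent.notMem_span_image (s := {a | a.2 = false ∧ (a.1 : ℕ) < i})
        (x := (i, false)) (by simp)
      refine this (?_ : φ₁.vec (i, false) ∈ _)
      refine (member_le φ₁ (i := i) (fun j hj => ?_) : φ₁.member (diag fun _ => false) i ≤ _) hm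
      exact subset_span ⟨(j, false), ⟨rfl, hj⟩, rfl⟩
    have hs : C.x i ⊔ span F {φ₁.vec (i, false)} = C.x (i + 1) := Flag.sup_eq_of_not_le (C.mono i)
      (by rw [C.dim _ i.2.le, C.dim _ i.2]) ((span_singleton_le_iff_mem _ _).2 h1)
      fun hle => hn ((span_singleton_le_iff_mem _ _).1 hle)
    rw [← hs] at h2
    obtain ⟨z, hz, w, hw, he⟩ := mem_sup.1 h2
    obtain ⟨c, rfl⟩ := mem_span_singleton.1 hw
    refine ⟨c, fun hc0 => ?_, by rw [← he]; simpa using hz⟩
    rw [hc0, zero_smul, add_zero] at he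
    rw [he] at hz
    rw [← hC] at hz
    have := φ.linearIndependent.notMem_span_image (s := {a | a.2 = false ∧ (a.1 : ℕ) < i})
      (x := (i, false)) (by simp)
    refine this ?_
    refine (member_le φ (i := i) (fun j hj => ?_) : φ.member (diag fun _ => false) i ≤ _) hz
    exact subset_span ⟨(j, false), ⟨rfl, hj⟩, rfl⟩
  choose c hc0 hc using hc
  set φ' := φ₁.scale c hc0 with hφ'
  have hC' : φ'.base = C := by rw [base, flag_scale]; exact hC₁
  have hE' : φ'.anti = E' := by rw [anti, flag_scale]; exact hE₁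
  let L : V →ₗ[F] V := φ.hyp φ' + φ'.proj ∘ₗ φ.proj
  have hL : ∀ v, L v = φ.hyp φ' v + φ'.proj (φ.proj v) := fun _ => rfl
  have hLvec : ∀ a, L (φ.vec a) = φ'.vec a := by
    intro a
    have h0 : φ.proj (φ.vec a) = 0 := by
      simp [proj, hyp_apply, co_vec]
    rw [hL, h0, map_zero, add_zero]
    simp [hyp_apply, co_vec]
  have he : ∀ j : Fin Γ.m, φ.vec (j, false) ∈ C.x Γ.m := fun j => hC ▸ φ.pvec_mem _ j.2
  have he' : ∀ j : Fin Γ.m, φ'.vec (j, false) ∈ C.x Γ.m := fun j => hC' ▸ φ'.pvec_mem _ j.2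
  -- the correction of a vector orthogonal to `C`
  have hcorr : ∀ w ∈ Γ.pp (C.x Γ.m), φ'.proj w - w ∈ C.x Γ.m := by
    intro w hw
    rw [proj, LinearMap.sub_apply, LinearMap.id_apply, sub_sub_cancel_left, hyp_apply]
    refine (C.x Γ.m).neg_mem (sum_mem fun a _ => ?_)
    obtain ⟨j, _ | _⟩ := a
    · exact (C.x Γ.m).smul_mem _ (he' j)
    · have : φ'.co (j, true) w = 0 := by
        rw [co, LinearMap.smul_apply, show flip ((j, true) : Fin Γ.m × Bool) = (j, false) from rfl,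
          hw _ (he' j), smul_zero]
      rw [this, zero_smul]; exact zero_mem _
  have hprojmem : ∀ v, φ.proj v ∈ Γ.pp (C.x Γ.m) := by
    intro v u hu
    rw [← hC, base_x] at hu
    induction hu using span_induction with
    | mem x hx => obtain ⟨a, rfl⟩ := hx; exact φ.B_proj _ v
    | zero => simp
    | add x y _ _ hx hy => simp [hx, hy]
    | smul c x _ hx => simp [hx]
  have hqx : ∀ w ∈ Γ.pp (C.x Γ.m), ∀ x ∈ C.x Γ.m, Γ.q (w + x) = Γ.q w ∧
      ∀ w' ∈ Γ.pp (C.x Γ.m), ∀ x' ∈ C.x Γ.m, Γ.B (w + x) (w' + x') = Γ.B w w' := by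
    intro w hw x hx
    refine ⟨?_, fun w' hw' x' hx' => ?_⟩
    · rw [Γ.q_add, (C.ti x hx).1, Γ.refl _ _ (hw x hx), map_zero, add_zero, add_zero]
    · simp [Γ.refl _ _ (hw x' hx'), hw' x hx, (C.ti x hx).2 x' hx']
  have hBproj : ∀ u v, Γ.B (φ'.proj (φ.proj u)) (φ'.proj (φ.proj v)) = Γ.B (φ.proj u) (φ.proj v) := by
    intro u v
    have h1 := (hqx _ (hprojmem u) _ (hcorr _ (hprojmem u))).2 _ (hprojmem v) _ (hcorr _ (hprojmem v))
    simpa using h1
  have hB : ∀ u v, Γ.B (L u) (L v) = Γ.B u v := by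
    intro u v
    conv_rhs => rw [← φ.hyp_add_proj u, ← φ.hyp_add_proj v]
    simp only [hL, map_add, LinearMap.add_apply]
    rw [B_hyp, hBproj, φ.B_proj' φ', φ.B_proj' φ, Γ.refl _ _ (φ.B_proj' φ' v (φ.proj u)),
      Γ.refl _ _ (φ.B_proj' φ v u)]
  have hq : ∀ v, Γ.q (L v) = Γ.q v := by
    intro v
    conv_rhs => rw [← φ.hyp_add_proj v]
    rw [hL, Γ.q_add, Γ.q_add, q_hyp, φ.B_proj' φ', φ.B_proj' φ]
    have h1 := (hqx _ (hprojmem v) _ (hcorr _ (hprojmem v))).1
    rw [add_sub_cancel] at h1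
    rw [h1]
  have hinj : Function.Injective L := fun u v h => sub_eq_zero.1 <| Γ.nd _ fun y => by
    rw [← hB, map_sub, h, sub_self, map_zero, LinearMap.zero_apply]
  let g : Γ.isom := ⟨LinearEquiv.ofBijective L ⟨hinj, LinearMap.injective_iff_surjective.1 hinj⟩, hB, hq⟩
  have hgvec : ∀ a, (g : V ≃ₗ[F] V) (φ.vec a) = φ'.vec a := hLvec
  have hflag : ∀ w, g • φ.flag w = φ'.flag w := fun w => by
    refine Flag.ext' fun i hi => eq_of_le_of_finrank_le ?_
      (by rw [(g • φ.flag w).dim i hi, (φ'.flag w).dim i hi])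
    rw [Flag.smul_x, Submodule.map_le_iff_le_comap]
    refine φ.member_le (fun j hj => ?_ : ∀ j : Fin Γ.m, (j : ℕ) < i →
      φ.pvec w j ∈ ((φ'.flag w).x i).comap ((g : V ≃ₗ[F] V) : V →ₗ[F] V))
    show (g : V ≃ₗ[F] V) (φ.vec (w.1 j, w.2 j)) ∈ (φ'.flag w).x i
    rw [hgvec]
    exact φ'.pvec_mem w hj
  refine ⟨g, (C.mem_unip_iff).2 ⟨?_, fun i hi v hv => ?_, fun v hv => ?_⟩, ?_⟩
  · rw [← hC, base, hflag]; exact hC'.trans hC.symm
  · rw [← hC, base_x] at hv
    induction hv using span_induction with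
    | mem x hx =>
      obtain ⟨⟨j, hj⟩, rfl⟩ := hx
      show (g : V ≃ₗ[F] V) (φ.vec (j, false)) - φ.vec (j, false) ∈ _
      rw [hgvec]
      exact C.le (Nat.le_of_lt_succ hj) (hc j)
    | zero => simp
    | add x y _ _ hx hy =>
      rw [map_add, add_sub_add_comm]; exact add_mem hx hy
    | smul c x _ hx => rw [map_smul, ← smul_sub]; exact (C.x i).smul_mem c hx
  · show L v - v ∈ _
    rw [show L v - v = (φ.hyp φ' v + φ'.proj (φ.proj v)) - (φ.hyp φ v + φ.proj v) by
      rw [φ.hyp_add_proj, hL], add_sub_add_comm]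
    refine add_mem ?_ (hcorr _ (hprojmem v))
    rw [hyp_apply, hyp_apply, ← Finset.sum_sub_distrib]
    refine sum_mem fun a _ => ?_
    obtain ⟨j, _ | _⟩ := a
    · rw [← smul_sub]
      exact (C.x Γ.m).smul_mem _ (sub_mem (he' j) (he j))
    · have : φ.co (j, true) v = 0 := by
        rw [co, LinearMap.smul_apply, show flip ((j, true) : Fin Γ.m × Bool) = (j, false) from rfl,
          hv _ (he j), smul_zero]
      rw [this, zero_smul, zero_smul, sub_self]; exact zero_mem _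
  · rw [← hE, anti, hflag]; exact hE'

/-- Only the identity fixes an opposite flag. -/
theorem eq_one_of_smul_eq {C E : Γ.Flag} (h : Opp C E) {g : Γ.isom} (hg : g ∈ C.unip)
    (hgE : g • E = E) : g = 1 := by
  obtain ⟨φ, hC, hE⟩ := exists_frame h
  obtain ⟨hgC, h1, h2⟩ := (C.mem_unip_iff).1 hg
  have zero : ∀ {i : ℕ} (_ : i ≤ Γ.m) {d : V}, d ∈ C.x i → d ∈ Γ.pp (E.x i) → d = 0 :=
    fun hi d hd hd' => (mem_bot F).1 (h.symm _ hi ▸ ⟨hd, hd'⟩)
  have zero' : ∀ {i : ℕ} (_ : i ≤ Γ.m) {d : V}, d ∈ E.x i → d ∈ Γ.pp (C.x i) → d = 0 :=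
    fun hi d hd hd' => (mem_bot F).1 (h _ hi ▸ ⟨hd, hd'⟩)
  have gpp : ∀ (X : Γ.Flag), g • X = X → ∀ i, ∀ v ∈ Γ.pp (X.x i), (g : V ≃ₗ[F] V) v ∈ Γ.pp (X.x i) := by
    intro X hX i v hv
    rw [← hX, Flag.smul_x, ← Γ.map_pp g.2]
    exact ⟨v, hv, rfl⟩
  have hvec : ∀ a, (g : V ≃ₗ[F] V) (φ.vec a) = φ.vec a := by
    rintro ⟨i, _ | _⟩
    · have hm : φ.vec (i, false) ∈ C.x (i + 1) := hC ▸ φ.pvec_mem _ (Nat.lt_succ_self _)
      have hp : φ.vec (i, false) ∈ Γ.pp (E.x i) := by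
        intro u hu
        rw [← hE] at hu
        change u ∈ φ.member _ _ at hu
        induction hu using span_induction with
        | mem x hx =>
          obtain ⟨⟨j, hj⟩, rfl⟩ := hx
          exact φ.orth _ _ fun e => absurd (congrArg Prod.fst e) fun e' => by
            change i = j at e'; subst e'; exact lt_irrefl _ hj
        | zero => simp
        | add x y _ _ hx hy => simp [hx, hy]
        | smul c x _ hx => simp [hx]
      exact sub_eq_zero.1 (zero i.2.le (h1 i i.2 _ hm) (sub_mem (gpp E hgE i _ hp) hp))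
    · have hm : φ.vec (i, true) ∈ E.x (i + 1) := hE ▸ φ.pvec_mem _ (Nat.lt_succ_self _)
      have hp : φ.vec (i, true) ∈ Γ.pp (C.x i) := by
        intro u hu
        rw [← hC, base_x] at hu
        induction hu using span_induction with
        | mem x hx =>
          obtain ⟨⟨j, hj⟩, rfl⟩ := hx
          exact φ.orth _ _ fun e => absurd (congrArg Prod.fst e) fun e' => by
            change i = j at e'; subst e'; exact lt_irrefl _ hj
        | zero => simp
        | add x y _ _ hx hy => simp [hx, hy]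
        | smul c x _ hx => simp [hx]
      have hm' : (g : V ≃ₗ[F] V) (φ.vec (i, true)) ∈ E.x (i + 1) := by
        have h3 := Flag.mem_smul g hm
        rwa [hgE] at h3
      exact sub_eq_zero.1 (zero' i.2 (sub_mem hm' hm)
        (Flag.sub_mem_pp C (by rw [hgC]) (fun u hu => h1 i i.2 u hu) hp))
  refine Subtype.ext (LinearEquiv.ext fun v => ?_)
  have hw : (g : V ≃ₗ[F] V) (φ.proj v) = φ.proj v := by
    have hwE : φ.proj v ∈ Γ.pp (E.x Γ.m) := by
      intro u hu
      rw [← hE] at hu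
      change u ∈ φ.member _ _ at hu
      induction hu using span_induction with
      | mem x hx => obtain ⟨a, rfl⟩ := hx; exact φ.B_proj _ v
      | zero => simp
      | add x y _ _ hx hy => simp [hx, hy]
      | smul c x _ hx => simp [hx]
    have hwC : φ.proj v ∈ Γ.pp (C.x Γ.m) := by
      intro u hu
      rw [← hC, base_x] at hu
      induction hu using span_induction with
      | mem x hx => obtain ⟨a, rfl⟩ := hx; exact φ.B_proj _ v
      | zero => simp
      | add x y _ _ hx hy => simp [hx, hy]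
      | smul c x _ hx => simp [hx]
    exact sub_eq_zero.1 (zero le_rfl (h2 _ hwC) (sub_mem (gpp E hgE _ _ hwE) hwE))
  conv_lhs => rw [← φ.hyp_add_proj v, map_add, hw, hyp_apply, map_sum]
  simp only [map_smul, hvec]
  rw [← hyp_apply, φ.hyp_add_proj]
  rfl

end Frame

end CfsgLib.ChamberSt.Geo
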